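import Mathlib.RingTheory.Artinian.Module
import Mathlib.RingTheory.Flat.Equalizer
import Mathlib.RingTheory.Idempotents
import Mathlib.RingTheory.Jacobson.Ring
import Mathlib.Algebra.Module.Projective
import Mathlib.LinearAlgebra.TensorProduct.RightExactness
import Mathlib.RingTheory.IsTensorProduct
import Mathlib.LinearAlgebra.TensorProduct.Quotient
import Mathlib.RingTheory.SimpleModule.InjectiveProjective
import Mathlib.RingTheory.Artinian.Ring
import Mathlib.Algebra.Module.Torsion.Basic

/-! Universal flattening ideal of a module over an Artinian ring. -/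

universe u

open TensorProduct

namespace Groth.Agent.UnivFlat23

variable {A : Type u} [CommRing A] (N : Type u) [AddCommGroup N] [Module A N]

/-- Idempotents of `End F` lift along a nilpotent ideal. -/
theorem lift_idem (J : Ideal A) (hJ : IsNilpotent J) {σ : Type u}
    (ε : ((σ →₀ A ⧸ J)) →ₗ[A] (σ →₀ A ⧸ J)) (hε : ε ∘ₗ ε = ε) :
    ∃ e : (σ →₀ A) →ₗ[A] (σ →₀ A), e ∘ₗ e = e ∧
      ∀ x, Finsupp.mapRange.linearMap (Submodule.mkQ J) (e x)
        = ε (Finsupp.mapRange.linearMap (Submodule.mkQ J) x) := by
  classical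
  set r : (σ →₀ A) →ₗ[A] (σ →₀ A ⧸ J) := Finsupp.mapRange.linearMap (Submodule.mkQ J) with hr
  have hker : ∀ x : σ →₀ A, r x = 0 → x ∈ J • (⊤ : Submodule A (σ →₀ A)) := by
    intro x hx
    rw [← Finsupp.sum_single x]
    refine Submodule.sum_mem _ fun i _ => ?_
    have : x i ∈ J := by
      have := DFunLike.congr_fun hx i
      simpa [r, Ideal.Quotient.eq_zero_iff_mem] using this
    rw [show Finsupp.single i (x i) = x i • Finsupp.single i (1 : A) by simp]
    exact Submodule.smul_mem_smul this trivial
  have hrsurj : Function.Surjective r := by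
    intro y
    exact ⟨Finsupp.mapRange (Function.surjInv (Submodule.mkQ_surjective J)
        |> fun g => fun b => if b = 0 then 0 else g b) (by simp) y, by
      ext i
      simp only [r, Finsupp.mapRange.linearMap_apply, Finsupp.mapRange_apply]
      split_ifs with h
      · simp [h]
      · exact Function.surjInv_eq (Submodule.mkQ_surjective J) _⟩
  -- a set-theoretic lift of `ε`
  have hlift : ∀ i : σ, ∃ y, r y = ε (r (Finsupp.single i 1)) := fun i => hrsurj _
  choose g hg using hlift
  set e₀ : (σ →₀ A) →ₗ[A] (σ →₀ A) := Finsupp.linearCombination A g with he₀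
  have hre₀ : ∀ x, r (e₀ x) = ε (r x) := by
    intro x
    induction x using Finsupp.induction_linear with
    | zero => simp
    | add a b ha hb => simp [ha, hb]
    | single i a =>
      rw [show Finsupp.single i a = a • Finsupp.single i (1 : A) by simp]
      rw [map_smul, map_smul, map_smul, map_smul]
      simp [e₀, hg]
  -- the two-sided ideal of endomorphisms killed modulo `J`
  obtain ⟨n, hn⟩ := hJ
  let R := Module.End A (σ →₀ A)
  let S : Subring R :=
    { carrier := {f | ∀ x, r x = 0 → r (f x) = 0}
      mul_mem' := fun {f g} hf hg x hx => hf _ (hg _ hx)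
      one_mem' := fun x hx => hx
      add_mem' := fun {f g} hf hg x hx => by
        show r (f x + g x) = 0
        rw [map_add, hf x hx, hg x hx, add_zero]
      zero_mem' := fun x _ => map_zero r
      neg_mem' := fun {f} hf x hx => by
        show r (-(f x)) = 0
        rw [map_neg, hf x hx, neg_zero] }
  let d : R → R := fun f => f * f - f
  -- Newton iteration would also work; we use the abstract lifting lemma on the quotient
  let Φ : S →+* Module.End A (σ →₀ A ⧸ J) :=
    { toFun := fun f => (r.ker.liftQ (r ∘ₗ f.1) (fun x hx => f.2 x hx)) ∘ₗ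
        ((r.quotKerEquivOfSurjective hrsurj).symm : (σ →₀ A ⧸ J) →ₗ[A] _)
      map_one' := by
        refine LinearMap.ext fun y => ?_
        obtain ⟨x, rfl⟩ := hrsurj y
        simp only [LinearMap.comp_apply, LinearEquiv.coe_coe]
        rw [show (r.quotKerEquivOfSurjective hrsurj).symm (r x) = Submodule.Quotient.mk x from
          (LinearEquiv.symm_apply_eq _).2 rfl]
        simp
      map_mul' := fun f f' => by
        refine LinearMap.ext fun y => ?_
        obtain ⟨x, rfl⟩ := hrsurj y
        have h1 : ∀ z, (r.quotKerEquivOfSurjective hrsurj).symm (r z) = Submodule.Quotient.mk z :=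
          fun z => (LinearEquiv.symm_apply_eq _).2 rfl
        simp [h1]
        rfl
      map_zero' := by
        refine LinearMap.ext fun y => ?_
        obtain ⟨x, rfl⟩ := hrsurj y
        have h1 : ∀ z, (r.quotKerEquivOfSurjective hrsurj).symm (r z) = Submodule.Quotient.mk z :=
          fun z => (LinearEquiv.symm_apply_eq _).2 rfl
        simp [h1]
      map_add' := fun f f' => by
        refine LinearMap.ext fun y => ?_
        obtain ⟨x, rfl⟩ := hrsurj y
        have h1 : ∀ z, (r.quotKerEquivOfSurjective hrsurj).symm (r z) = Submodule.Quotient.mk z :=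
          fun z => (LinearEquiv.symm_apply_eq _).2 rfl
        simp [h1]
        exact map_add r _ _ }
  have hΦ : ∀ (f : S) x, Φ f (r x) = r (f.1 x) := by
    intro f x
    have h1 : (r.quotKerEquivOfSurjective hrsurj).symm (r x) = Submodule.Quotient.mk x :=
      (LinearEquiv.symm_apply_eq _).2 rfl
    simp [Φ, h1]
  have hnil : ∀ f ∈ RingHom.ker Φ, IsNilpotent f := by
    intro f hf
    refine ⟨n, Subtype.ext (LinearMap.ext fun x => ?_)⟩
    have h1 : ∀ x, f.1 x ∈ J • (⊤ : Submodule A (σ →₀ A)) := fun x => hker _ (by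
      rw [← hΦ f x, RingHom.mem_ker.1 hf]; simp)
    have h2 : ∀ k, ∀ x, (f.1 ^ k) x ∈ (J ^ k) • (⊤ : Submodule A (σ →₀ A)) := by
      intro k
      induction k with
      | zero => intro x; simp
      | succ k ih =>
        intro x
        rw [pow_succ' f.1, Module.End.mul_apply]
        have := Submodule.mem_map_of_mem (f := f.1) (ih x)
        rw [Submodule.map_smul''] at this
        have h3 : (Submodule.map f.1 ⊤) ≤ J • (⊤ : Submodule A (σ →₀ A)) := by
          rintro _ ⟨z, -, rfl⟩; exact h1 z
        have h4 := Submodule.smul_mono le_rfl h3 this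
        rwa [pow_succ, Submodule.mul_smul]
    have := h2 n x
    rw [hn] at this
    simpa using this
  obtain ⟨e, he, he'⟩ := exists_isIdempotentElem_eq_of_ker_isNilpotent Φ hnil ε
    ⟨⟨e₀, fun x hx => by rw [hre₀, hx, map_zero]⟩, LinearMap.ext fun y => by
      obtain ⟨x, rfl⟩ := hrsurj y
      rw [hΦ]; exact hre₀ x⟩ (by simpa [IsIdempotentElem, Module.End.mul_eq_comp] using hε)
  exact ⟨e.1, congrArg Subtype.val he.eq, fun x => by
    show r (e.1 x) = ε (r x)
    rw [← hΦ e x, he']⟩

theorem eq_bot_of_le_smul {M : Type u} [AddCommGroup M] [Module A M] (J : Ideal A)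
    (hJ : IsNilpotent J) (K : Submodule A M) (h : K ≤ J • K) : K = ⊥ := by
  obtain ⟨n, hn⟩ := hJ
  have hk : ∀ k, K ≤ (J ^ k) • K := by
    intro k
    induction k with
    | zero => simp
    | succ k ih =>
      calc K ≤ J ^ k • K := ih
        _ ≤ J ^ k • (J • K) := Submodule.smul_mono le_rfl h
        _ = J ^ (k + 1) • K := by rw [pow_succ, Submodule.mul_smul]
  have := hk n
  rw [hn] at this
  simpa using this

/-- Existence of a projective module surjecting onto `N`, bijectively modulo the nilradical. -/
theorem exists_cover [IsArtinianRing A] :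
    ∃ (σ : Type u) (P : Submodule A (σ →₀ A)) (π : ↥P →ₗ[A] N),
      (∃ ρ : (σ →₀ A) →ₗ[A] ↥P, ∀ x : ↥P, ρ (x : σ →₀ A) = x) ∧
      Function.Surjective π ∧
      LinearMap.ker π ≤ nilradical A • (⊤ : Submodule A ↥P) := by
  classical
  set J := nilradical A with hJ
  have hJnil : IsNilpotent J := IsArtinianRing.isNilpotent_nilradical
  have : IsReduced (A ⧸ J) := (Ideal.isRadical_iff_quotient_reduced J).1 (Ideal.radical_isRadical _)
  have hss : IsSemisimpleRing (A ⧸ J) := IsArtinianRing.isSemisimpleRing_of_isReduced _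
  let W := N ⧸ (J • ⊤ : Submodule A N)
  let : Module (A ⧸ J) W := inferInstanceAs (Module (A ⧸ J) (N ⧸ (J • ⊤ : Submodule A N)))
  have : IsScalarTower A (A ⧸ J) W := inferInstanceAs (IsScalarTower A (A ⧸ J) (N ⧸ (J • ⊤ : Submodule A N)))
  let π₀ : (N →₀ A) →ₗ[A] N := Finsupp.linearCombination A id
  have hπ₀ : Function.Surjective π₀ := fun y => ⟨Finsupp.single y 1, by simp [π₀]⟩
  let m : N →ₗ[A] W := Submodule.mkQ _
  let q : (N →₀ A ⧸ J) →ₗ[A ⧸ J] W := Finsupp.linearCombination (A ⧸ J) (fun y => m y)
  set r : (N →₀ A) →ₗ[A] (N →₀ A ⧸ J) := Finsupp.mapRange.linearMap (Submodule.mkQ J) with hr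
  have hqr : ∀ x, q (r x) = m (π₀ x) := by
    intro x
    induction x using Finsupp.induction_linear with
    | zero => simp only [map_zero]
    | add a b ha hb => rw [map_add, map_add, map_add, map_add, ha, hb]
    | single i a =>
      simp only [q, r, π₀, Finsupp.mapRange.linearMap_apply, Finsupp.mapRange_single,
        Finsupp.linearCombination_single, map_smul, id]
      exact algebraMap_smul (A ⧸ J) a (m i)
  have hqsurj : Function.Surjective q := by
    intro w
    obtain ⟨y, rfl⟩ := Submodule.mkQ_surjective _ w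
    refine ⟨r (Finsupp.single y 1), ?_⟩
    rw [hqr, show π₀ (Finsupp.single y 1) = y by simp [π₀]]
  have : Module.Projective (A ⧸ J) W := Module.projective_of_isSemisimpleRing _ _
  obtain ⟨s, hs⟩ := Module.projective_lifting_property q LinearMap.id hqsurj
  have hs' : ∀ w, q (s w) = w := fun w => LinearMap.congr_fun hs w
  obtain ⟨e, he, hre⟩ := lift_idem J hJnil ((s ∘ₗ q).restrictScalars A)
    (LinearMap.ext fun x => by simp [hs'])
  have he' : ∀ x, e (e x) = e x := fun x => LinearMap.congr_fun he x
  let P := LinearMap.range e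
  refine ⟨N, P, π₀ ∘ₗ P.subtype, ?_, ?_, ?_⟩
  · exact ⟨e.rangeRestrict, fun ⟨x, y, hy⟩ => Subtype.ext (by subst hy; exact he' y)⟩
  · rw [← LinearMap.range_eq_top, LinearMap.range_comp, Submodule.range_subtype]
    have hle : (⊤ : Submodule A N) ≤ P.map π₀ ⊔ J • ⊤ := by
      intro y _
      obtain ⟨x, rfl⟩ := hπ₀ y
      rw [show π₀ x = π₀ (e x) + π₀ (x - e x) by rw [map_sub]; abel]
      refine Submodule.add_mem_sup ⟨e x, ⟨x, rfl⟩, rfl⟩ ?_
      rw [← Submodule.Quotient.mk_eq_zero]
      show m (π₀ (x - e x)) = 0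
      rw [← hqr, map_sub, map_sub, hre, LinearMap.restrictScalars_apply, LinearMap.comp_apply, hs',
        sub_self]
    obtain ⟨n, hn⟩ := hJnil
    have hk : ∀ k, (⊤ : Submodule A N) ≤ P.map π₀ ⊔ J ^ k • ⊤ := by
      intro k
      induction k with
      | zero => simp
      | succ k ih =>
        refine ih.trans (sup_le le_sup_left ?_)
        refine (Submodule.smul_mono le_rfl hle).trans ?_
        rw [Submodule.smul_sup]
        exact sup_le_sup Submodule.smul_le_right (by rw [pow_succ, Submodule.mul_smul])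
    have := hk n
    rw [hn] at this
    simpa [top_le_iff] using this
  · rintro ⟨x, hx⟩ h0
    obtain ⟨y, rfl⟩ := hx
    have h1 : π₀ (e y) = 0 := h0
    have h2 : r (e y) = 0 := by
      have : r (e y) = (s ∘ₗ q).restrictScalars A (r (e y)) := by rw [← hre, he']
      rw [this, LinearMap.restrictScalars_apply, LinearMap.comp_apply, hqr, h1, map_zero, map_zero]
    have h3 : e y ∈ J • (⊤ : Submodule A (N →₀ A)) := by
      rw [← Finsupp.sum_single (e y)]
      refine Submodule.sum_mem _ fun i _ => ?_
      have : e y i ∈ J := by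
        have := DFunLike.congr_fun h2 i
        simpa [r, Ideal.Quotient.eq_zero_iff_mem] using this
      rw [show Finsupp.single i (e y i) = e y i • Finsupp.single i (1 : A) by simp]
      exact Submodule.smul_mem_smul this trivial
    have h4 := Submodule.mem_map_of_mem (f := e.rangeRestrict) h3
    rw [Submodule.map_smul''] at h4
    have h5 : e.rangeRestrict (e y) = ⟨e y, ⟨y, rfl⟩⟩ := Subtype.ext (he' y)
    rw [h5] at h4
    exact Submodule.smul_mono le_rfl le_top h4

theorem injective_of_flat {R : Type u} [CommRing R] {M Q : Type u} [AddCommGroup M] [Module R M]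
    [AddCommGroup Q] [Module R Q] [Module.Flat R Q] (g : M →ₗ[R] Q) (hg : Function.Surjective g)
    (J : Ideal R) (hJ : IsNilpotent J) (h : LinearMap.ker g ≤ J • ⊤) : Function.Injective g := by
  rw [← LinearMap.ker_eq_bot]
  refine eq_bot_of_le_smul J hJ _ fun z hz => ?_
  have hinj : Function.Injective ((LinearMap.ker g).subtype.lTensor (R ⧸ J)) :=
    LinearMap.lTensor_injective_of_exact_of_flat g hg _ Subtype.val_injective
      (LinearMap.exact_subtype_ker_map g) _
  have h1 : ((LinearMap.ker g).subtype.lTensor (R ⧸ J)) (1 ⊗ₜ ⟨z, hz⟩) = 0 := by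
    rw [LinearMap.lTensor_tmul]
    have hzJ : (LinearMap.ker g).subtype ⟨z, hz⟩ ∈ J • (⊤ : Submodule R M) := h hz
    refine Submodule.smul_induction_on hzJ (fun c hc y _ => ?_) (fun y w hy hw => ?_)
    · rw [TensorProduct.tmul_smul, TensorProduct.smul_tmul', Algebra.smul_def,
        Ideal.Quotient.algebraMap_eq, Ideal.Quotient.eq_zero_iff_mem.2 hc, zero_mul,
        TensorProduct.zero_tmul]
    · rw [TensorProduct.tmul_add, hy, hw, add_zero]
  have h2 : (1 : R ⧸ J) ⊗ₜ[R] (⟨z, hz⟩ : LinearMap.ker g) = 0 := hinj (by rw [h1, map_zero])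
  have h3 := congrArg (TensorProduct.quotTensorEquivQuotSMul ↥(LinearMap.ker g) J) h2
  rw [map_zero, show (1 : R ⧸ J) = Ideal.Quotient.mk J 1 from rfl,
    TensorProduct.quotTensorEquivQuotSMul_mk_tmul, one_smul,
    Submodule.Quotient.mk_eq_zero] at h3
  have h4 := Submodule.mem_map_of_mem (f := (LinearMap.ker g).subtype) h3
  rw [Submodule.map_smul'', Submodule.map_top, Submodule.range_subtype] at h4
  exact h4

theorem baseChange_ker_le {R : Type u} [CommRing R] [Algebra A R] {M Q : Type u} [AddCommGroup M]
    [Module A M] [AddCommGroup Q] [Module A Q] (g : M →ₗ[A] Q) (hg : Function.Surjective g)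
    (J : Ideal A) (h : LinearMap.ker g ≤ J • ⊤) :
    LinearMap.ker (g.baseChange R) ≤ J.map (algebraMap A R) • ⊤ := by
  intro z hz
  obtain ⟨w, rfl⟩ := (lTensor_exact R (M := ↥(LinearMap.ker g)) (N := M) (P := Q)
    (f := (LinearMap.ker g).subtype) (g := g) (LinearMap.exact_subtype_ker_map g) hg z).1 hz
  clear hz
  induction w with
  | zero => simp
  | add a b ha hb => rw [map_add]; exact add_mem ha hb
  | tmul a x =>
    show a ⊗ₜ[A] (x : M) ∈ _
    refine Submodule.smul_induction_on (h x.2) (fun c hc y _ => ?_) (fun y w hy hw => ?_)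
    · rw [TensorProduct.tmul_smul, ← IsScalarTower.algebraMap_smul R c (a ⊗ₜ[A] y)]
      exact Submodule.smul_mem_smul (Ideal.mem_map_of_mem _ hc) trivial
    · rw [TensorProduct.tmul_add]; exact add_mem hy hw

theorem flattening_of_cover {P : Type u} [AddCommGroup P] [Module A P] {σ : Type u}
    (c : P →ₗ[A] (σ →₀ A)) (ρ : (σ →₀ A) →ₗ[A] P) (hρ : ∀ x, ρ (c x) = x)
    (π : P →ₗ[A] N) (hπ : Function.Surjective π) (J : Ideal A) (hJnil : IsNilpotent J)
    (hker : LinearMap.ker π ≤ J • ⊤) (A' : Type u) [CommRing A'] [Algebra A A'] :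
    Module.Flat A' (A' ⊗[A] N) ↔
      (Ideal.span {a | ∃ x ∈ LinearMap.ker π, ∃ i, c x i = a}).map (algebraMap A A') = ⊥ := by
  have hP : Module.Projective A P := Module.Projective.of_split c ρ (LinearMap.ext hρ)
  have hsurj : Function.Surjective (π.baseChange A') := by
    rw [LinearMap.baseChange_eq_ltensor]; exact LinearMap.lTensor_surjective A' hπ
  constructor
  · intro hflat
    have hJ' : IsNilpotent (J.map (algebraMap A A')) := by
      obtain ⟨n, hn⟩ := hJnil
      exact ⟨n, by rw [← Ideal.map_pow, hn]; exact Ideal.map_bot⟩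
    have hinj : Function.Injective (π.baseChange A') :=
      injective_of_flat (π.baseChange A') hsurj _ hJ' (baseChange_ker_le π hπ J hker)
    rw [Ideal.map_span, Ideal.span_eq_bot]
    rintro _ ⟨_, ⟨x, hx, i, rfl⟩, rfl⟩
    have h0 : (1 : A') ⊗ₜ[A] x = 0 := hinj (by
      rw [LinearMap.baseChange_tmul, LinearMap.mem_ker.1 hx, TensorProduct.tmul_zero, map_zero])
    let φ : P →ₗ[A] A := Finsupp.lapply i ∘ₗ c
    have := congrArg ((TensorProduct.rid A A').toLinearMap ∘ₗ φ.lTensor A') h0
    simpa [φ, Algebra.smul_def] using this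
  · intro hI
    have : Module.Projective A' (A' ⊗[A] P) := inferInstance
    have hK0 : ∀ x ∈ LinearMap.ker π, (1 : A') ⊗ₜ[A] x = 0 := by
      intro x hx
      have hz : ∀ i, algebraMap A A' (c x i) = 0 := fun i => by
        have h : algebraMap A A' (c x i) ∈ (Ideal.span {a | ∃ x ∈ LinearMap.ker π,
          ∃ i, c x i = a}).map (algebraMap A A') :=
          Ideal.mem_map_of_mem _ (Ideal.subset_span ⟨x, hx, i, rfl⟩)
        rw [hI] at h
        exact h
      -- `P` is a direct summand of the free module
      rw [← hρ x, ← Finsupp.sum_single (c x), map_finsuppSum, Finsupp.sum, TensorProduct.tmul_sum]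
      refine Finset.sum_eq_zero fun i _ => ?_
      rw [show Finsupp.single i (c x i) = c x i • Finsupp.single i (1 : A) by
          simp, map_smul, TensorProduct.tmul_smul, ← IsScalarTower.algebraMap_smul A', hz,
        zero_smul]
    have hinj : Function.Injective (π.baseChange A') := by
      rw [injective_iff_map_eq_zero]
      intro z hz
      rw [LinearMap.baseChange_eq_ltensor] at hz
      obtain ⟨w, rfl⟩ := (lTensor_exact A' (M := ↥(LinearMap.ker π)) (N := P) (P := N)
        (f := (LinearMap.ker π).subtype) (g := π) (LinearMap.exact_subtype_ker_map π) hπ z).1 hz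
      clear hz
      induction w with
      | zero => exact map_zero _
      | add a b ha hb => rw [map_add, ha, hb, add_zero]
      | tmul a x =>
        rw [LinearMap.lTensor_tmul,
          show a ⊗ₜ[A] ((LinearMap.ker π).subtype x) = a • ((1 : A') ⊗ₜ[A] (x : P)) by
            rw [TensorProduct.smul_tmul', smul_eq_mul, mul_one]; rfl,
          hK0 _ x.2, smul_zero]
    exact Module.Flat.of_linearEquiv (LinearEquiv.ofBijective _ ⟨hinj, hsurj⟩).symm

/-- The universal flattening ideal. -/
theorem exists_flattening_ideal [IsArtinianRing A] :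
    ∃ I : Ideal A, ∀ (A' : Type u) [CommRing A'] [Algebra A A'],
      Module.Flat A' (A' ⊗[A] N) ↔ I.map (algebraMap A A') = ⊥ := by
  obtain ⟨σ, P, π, ⟨ρ, hρ⟩, hπ, hker⟩ := exists_cover (A := A) N
  exact ⟨_, flattening_of_cover (P := ↥P) N P.subtype ρ hρ π hπ (nilradical A)
    IsArtinianRing.isNilpotent_nilradical hker⟩

end Groth.Agent.UnivFlat23
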