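import Groth.Agent.ZeroCyc.Flat

/-! Symmetric tensors are generated by elementary symmetric tensors. -/

universe u

open scoped TensorProduct
open ZeroCyc

namespace Groth.Agent.UnivFlat23

variable {R : Type u} [CommRing R] {A : Type u} [CommRing A] [Algebra R A] {n : ℕ}

variable (R A n) in
/-- The subalgebra generated by the elementary symmetric tensors. -/
noncomputable def elemAlg : Subalgebra R (⨂[R] _ : Fin n, A) :=
  Algebra.adjoin R {t : ⨂[R] _ : Fin n, A | ∃ (a : A) (j : ℕ),
      t = ∑ I ∈ (Finset.univ : Finset (Fin n)).powersetCard j,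
        PiTensorProduct.tprod R (fun i : Fin n => if i ∈ I then a else (1 : A))}

open Classical in
/-- Non-trivial places. -/
noncomputable def supp {κ : Type u} (z : κ) (c : Fin n → κ) : Finset (Fin n) :=
  Finset.univ.filter fun i => c i ≠ z

open Classical in
/-- The orbit of a labelling. -/
noncomputable def orbit {κ : Type u} (c : Fin n → κ) : Finset (Fin n → κ) :=
  Finset.univ.image fun σ : Equiv.Perm (Fin n) => c ∘ σ

theorem self_mem_orbit {κ : Type u} (c : Fin n → κ) : c ∈ orbit c := by
  classical
  exact Finset.mem_image.2 ⟨1, Finset.mem_univ _, rfl⟩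

theorem mem_orbit_iff {κ : Type u} {c d : Fin n → κ} :
    d ∈ orbit c ↔ ∃ σ : Equiv.Perm (Fin n), c ∘ σ = d := by
  classical
  simp [orbit]

theorem card_supp_comp {κ : Type u} (z : κ) (c : Fin n → κ) (σ : Equiv.Perm (Fin n)) :
    (supp z (c ∘ σ)).card = (supp z c).card := by
  classical
  refine Finset.card_bij (fun i _ => σ i) (fun i hi => ?_) (fun i _ j _ h => σ.injective h)
    (fun j hj => ⟨σ.symm j, ?_, σ.apply_symm_apply j⟩)
  · simpa [supp] using hi
  · simpa [supp] using hj

/-- Invariant finite sums lie in `W` once the orbit sums do. -/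
theorem invariant_mem {κ : Type u} (v : κ → A) {m : ℕ} (z : κ)
    (h : ∀ c : Fin n → κ, (supp z c).card < m →
      ∑ d ∈ orbit c, PiTensorProduct.tprod R (fun i => v (d i)) ∈ elemAlg R A n)
    (s : Finset (Fin n → κ)) (hs : ∀ c ∈ s, ∀ σ : Equiv.Perm (Fin n), c ∘ σ ∈ s)
    (hm : ∀ c ∈ s, (supp z c).card < m) :
    ∑ d ∈ s, PiTensorProduct.tprod R (fun i => v (d i)) ∈ elemAlg R A n := by
  classical
  induction hk : s.card using Nat.strong_induction_on generalizing s with
  | _ k ih =>
    rcases s.eq_empty_or_nonempty with rfl | ⟨c, hc⟩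
    · simp
    have hsub : orbit c ⊆ s := fun d hd => by
      obtain ⟨σ, rfl⟩ := mem_orbit_iff.1 hd
      exact hs c hc σ
    rw [← Finset.sum_sdiff hsub]
    refine add_mem (ih _ ?_ (s \ orbit c) ?_ (fun d hd => hm d (Finset.mem_sdiff.1 hd).1) rfl) (h c (hm c hc))
    · rw [← hk]
      exact Finset.card_lt_card (Finset.sdiff_ssubset hsub ⟨c, self_mem_orbit c⟩)
    · intro d hd σ
      rw [Finset.mem_sdiff] at hd ⊢
      refine ⟨hs d hd.1 σ, fun h' => hd.2 ?_⟩
      obtain ⟨τ, hτ⟩ := mem_orbit_iff.1 h'
      refine mem_orbit_iff.2 ⟨σ.symm.trans τ, ?_⟩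
      funext i
      have := congrFun hτ (σ.symm i)
      simpa using this

/-- **Orbit sums are polynomials in the elementary symmetric tensors.** -/
theorem orbit_mem : ∀ (m : ℕ) {κ : Type u} (v : κ → A) (z : κ) (_ : v z = 1) (c : Fin n → κ),
    (supp z c).card = m → ∑ d ∈ orbit c, PiTensorProduct.tprod R (fun i => v (d i)) ∈ elemAlg R A n := by
  classical
  intro m
  induction m using Nat.strong_induction_on with
  | _ m ih =>
  intro κ v z hz c hc
  by_cases hm : supp z c = ∅
  · have hcz : ∀ i, c i = z := fun i => by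
      by_contra h
      have : i ∈ supp z c := by simp [supp, h]
      rw [hm] at this
      simp at this
    have horb : orbit c = {c} := by
      refine Finset.eq_singleton_iff_unique_mem.2 ⟨self_mem_orbit c, fun d hd => ?_⟩
      obtain ⟨σ, rfl⟩ := mem_orbit_iff.1 hd
      funext i; simp [hcz]
    rw [horb, Finset.sum_singleton, show (fun i => v (c i)) = 1 from funext fun i => by simp [hcz, hz]]
    exact one_mem (elemAlg R A n)
  obtain ⟨i₀, hi₀⟩ := Finset.nonempty_iff_ne_empty.2 hm
  let a := c i₀
  have haz : a ≠ z := by simpa [supp] using hi₀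
  let c₀ : Fin n → κ := fun i => if c i = a then z else c i
  let J : Finset (Fin n) := Finset.univ.filter fun i => c i = a
  let P : Finset ((Fin n → κ) × Finset (Fin n)) := orbit c₀ ×ˢ (Finset.univ.powersetCard J.card)
  let v' : κ × Bool → A := fun l => v l.1 * (if l.2 then v a else 1)
  let enc : (Fin n → κ) × Finset (Fin n) → (Fin n → κ × Bool) := fun p i => (p.1 i, decide (i ∈ p.2))
  have henc : Function.Injective enc := by
    rintro ⟨e, I⟩ ⟨e', I'⟩ h
    refine Prod.ext (funext fun i => congrArg Prod.fst (congrFun h i)) (Finset.ext fun i => ?_)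
    simpa [enc] using congrArg Prod.snd (congrFun h i)
  have hc₀card : (supp z c₀).card + J.card = m := by
    rw [← hc, ← Finset.card_union_of_disjoint]
    · congr 1
      ext i
      by_cases h : c i = a <;> simp [supp, c₀, J, h, haz]
    · rw [Finset.disjoint_left]
      intro i hi hi'
      simp [supp, c₀, J] at hi hi'
      simp [hi'] at hi
  have hJpos : 0 < J.card := Finset.card_pos.2 ⟨i₀, by simp [J, a]⟩
  have hprod : (∑ d ∈ orbit c₀, PiTensorProduct.tprod R (fun i => v (d i))) *
      (∑ I ∈ (Finset.univ : Finset (Fin n)).powersetCard J.card,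
        PiTensorProduct.tprod R (fun i : Fin n => if i ∈ I then v a else (1 : A))) =
      ∑ p ∈ P, PiTensorProduct.tprod R (fun i => v' (enc p i)) := by
    rw [Finset.sum_mul_sum, ← Finset.sum_product']
    refine Finset.sum_congr rfl fun p _ => ?_
    rw [PiTensorProduct.tprod_mul_tprod]
    congr 1
    funext i
    by_cases h : i ∈ p.2 <;> simp [v', enc, h]
  have hmem : (∑ p ∈ P, PiTensorProduct.tprod R (fun i => v' (enc p i))) ∈ elemAlg R A n := by
    rw [← hprod]
    refine mul_mem (ih _ (by omega) v z hz c₀ rfl) (Algebra.subset_adjoin ⟨v a, J.card, rfl⟩)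
  let P₁ := P.filter fun p => ∀ i ∈ p.2, p.1 i = z
  let P₂ := P.filter fun p => ¬ ∀ i ∈ p.2, p.1 i = z
  have hP : ∀ p, p ∈ P ↔ (∃ σ : Equiv.Perm (Fin n), c₀ ∘ σ = p.1) ∧ p.2.card = J.card := by
    intro p
    simp [P, mem_orbit_iff, Finset.mem_powersetCard]
  -- the overlapping part has smaller support
  have hlow : (∑ p ∈ P₂, PiTensorProduct.tprod R (fun i => v' (enc p i))) ∈ elemAlg R A n := by
    rw [show (∑ p ∈ P₂, PiTensorProduct.tprod R (fun i => v' (enc p i)))
        = ∑ d ∈ P₂.image enc, PiTensorProduct.tprod R (fun i => v' (d i)) from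
      (Finset.sum_image (f := fun d => PiTensorProduct.tprod R (fun i => v' (d i))) fun x _ y _ h => henc h).symm]
    refine invariant_mem v' (m := m) (z, false) (fun d hd => ih _ hd v' (z, false) (by simp [v', hz]) d rfl)
      _ ?_ ?_
    · intro d hd σ
      obtain ⟨⟨e, I⟩, hp, rfl⟩ := Finset.mem_image.1 hd
      simp only [P₂, Finset.mem_filter, hP] at hp
      obtain ⟨⟨⟨τ, hτ⟩, hI⟩, hov⟩ := hp
      refine Finset.mem_image.2 ⟨(e ∘ σ, Finset.univ.filter fun i => σ i ∈ I), ?_, ?_⟩
      · simp only [P₂, Finset.mem_filter, hP]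
        refine ⟨⟨⟨σ.trans τ, by rw [← hτ]; rfl⟩, ?_⟩, fun h => hov fun i hi => ?_⟩
        · rw [← hI]
          exact Finset.card_bij (fun i _ => σ i) (fun i hi => by simpa using hi)
            (fun i _ j _ h => σ.injective h) (fun j hj => ⟨σ.symm j, by simpa using hj, σ.apply_symm_apply j⟩)
        · have := h (σ.symm i) (by simpa using hi)
          simpa using this
      · funext i
        simp [enc]
    · intro d hd
      obtain ⟨⟨e, I⟩, hp, rfl⟩ := Finset.mem_image.1 hd
      simp only [P₂, Finset.mem_filter, hP] at hp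
      obtain ⟨⟨⟨τ, hτ⟩, hI⟩, hov⟩ := hp
      have he : (supp z e).card = (supp z c₀).card := by rw [← hτ, card_supp_comp]
      have hsupp : supp ((z, false) : κ × Bool) (enc (e, I)) = supp z e ∪ I := by
        ext i
        by_cases h : i ∈ I <;> simp [supp, enc, h]
      rw [hsupp]
      have hne : (supp z e ∩ I).Nonempty := by
        push_neg at hov
        obtain ⟨i, hi, hei⟩ := hov
        exact ⟨i, Finset.mem_inter.2 ⟨by simp [supp, hei], hi⟩⟩
      have := Finset.card_union_add_card_inter (supp z e) I
      have := hne.card_pos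
      omega
  -- the disjoint part is the orbit of `c`
  have htop : ∑ p ∈ P₁, PiTensorProduct.tprod R (fun i => v' (enc p i)) =
      ∑ d ∈ orbit c, PiTensorProduct.tprod R (fun i => v (d i)) := by
    symm
    refine Finset.sum_nbij' (fun d => (fun i => if d i = a then z else d i, Finset.univ.filter fun i => d i = a))
      (fun p i => if i ∈ p.2 then a else p.1 i) ?_ ?_ ?_ ?_ ?_
    · intro d hd
      obtain ⟨σ, rfl⟩ := mem_orbit_iff.1 hd
      simp only [Finset.mem_coe, P₁, Finset.mem_filter, hP]
      refine ⟨⟨⟨σ, rfl⟩, ?_⟩, fun i hi => ?_⟩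
      · exact Finset.card_bij (fun i _ => σ i) (fun i hi => by simpa [J] using hi)
          (fun i _ j _ h => σ.injective h)
          (fun j hj => ⟨σ.symm j, by simpa [J] using hj, σ.apply_symm_apply j⟩)
      · simp at hi
        simp [hi]
    · rintro ⟨e, I⟩ hp
      simp only [Finset.mem_coe, P₁, Finset.mem_filter, hP] at hp
      obtain ⟨⟨⟨τ, hτ⟩, hI⟩, hdis⟩ := hp
      rw [mem_orbit_iff]
      have he : ∀ i, e i ≠ a := fun i => by
        rw [← hτ]
        by_cases h : c (τ i) = a <;> simp [c₀, h, Ne.symm haz]
      obtain ⟨σ, -, hσ⟩ := exists_perm_of_wt ∅ (c := fun i => if i ∈ I then a else e i) (c' := c) (by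
        ext l
        rw [wt_apply, wt_apply]
        by_cases hla : l = a
        · subst hla
          rw [show (Finset.univ.filter fun i => (if i ∈ I then a else e i) = a) = I from by
            ext i; by_cases h : i ∈ I <;> simp [h, he i]]
          exact hI
        · rw [show (Finset.univ.filter fun i => (if i ∈ I then a else e i) = l) =
              (Finset.univ.filter fun i => e i = l) \ I from by
            ext i; by_cases h : i ∈ I <;> simp [h, Ne.symm hla]]
          have hcnt : (Finset.univ.filter fun i => e i = l).card =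
              (Finset.univ.filter fun i => c₀ i = l).card := by
            rw [← hτ]
            exact Finset.card_bij (fun i _ => τ i) (fun i hi => by simpa using hi)
              (fun i _ j _ h => τ.injective h)
              (fun j hj => ⟨τ.symm j, by simpa using hj, τ.apply_symm_apply j⟩)
          by_cases hlz : l = z
          · subst hlz
            rw [Finset.card_sdiff_of_subset (fun i hi => by simp [hdis i hi]), hcnt, hI]
            have h2 : (Finset.univ.filter fun i => c₀ i = l).card =
                (Finset.univ.filter fun i => c i = l).card + J.card := by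
              rw [← Finset.card_union_of_disjoint]
              · congr 1
                ext i
                by_cases h : c i = a <;> simp [c₀, J, h]
              · rw [Finset.disjoint_left]
                intro i hi hi'
                simp [J] at hi hi'
                exact hla (hi.symm.trans hi')
            omega
          · rw [show (Finset.univ.filter fun i => e i = l) \ I = Finset.univ.filter fun i => e i = l from
              Finset.sdiff_eq_self_of_disjoint (Finset.disjoint_left.2 fun i hi hi' => by
                simp at hi; exact hlz (hi.symm.trans (hdis i hi'))), hcnt]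
            congr 1
            ext i
            by_cases h : c i = a <;> simp [c₀, h, Ne.symm hla, Ne.symm hlz]) (by simp)
      exact ⟨σ, hσ⟩
    · intro d hd
      funext i
      by_cases h : d i = a <;> simp [h]
    · rintro ⟨e, I⟩ hp
      simp only [Finset.mem_coe, P₁, Finset.mem_filter, hP] at hp
      obtain ⟨⟨⟨τ, hτ⟩, hI⟩, hdis⟩ := hp
      have he : ∀ i, e i ≠ a := fun i => by
        rw [← hτ]
        by_cases h : c (τ i) = a <;> simp [c₀, h, Ne.symm haz]
      refine Prod.ext (funext fun i => ?_) (Finset.ext fun i => ?_)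
      · by_cases h : i ∈ I
        · simp [h, hdis i h]
        · simp [h, he i]
      · by_cases h : i ∈ I <;> simp [h, he i]
    · intro d hd
      congr 1
      funext i
      by_cases h : d i = a <;> simp [v', enc, h, hz]
  rw [← htop]
  have hsplit := Finset.sum_filter_add_sum_filter_not P (fun p => ∀ i ∈ p.2, p.1 i = z)
    (fun p => PiTensorProduct.tprod R (fun i => v' (enc p i)))
  rw [eq_sub_of_add_eq hsplit]
  exact sub_mem hmem hlow

theorem elemAlg_le : elemAlg R A n ≤ SymTen.TS R A n := by
  refine Algebra.adjoin_le ?_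
  rintro _ ⟨a, j, rfl⟩
  intro σ
  rw [map_sum]
  refine Finset.sum_nbij' (fun I => I.map σ.toEmbedding) (fun I => I.map σ.symm.toEmbedding) ?_ ?_ ?_ ?_ ?_
  · intro I hI
    simp_all [Finset.mem_powersetCard]
  · intro I hI
    simp_all [Finset.mem_powersetCard]
  · intro I _
    ext x; simp
  · intro I _
    ext x; simp
  · intro I _
    rw [PiTensorProduct.reindex_tprod]
    congr 1
    funext i
    simp [Finset.mem_map_equiv]

theorem TS_eq_elemAlg [Module.Flat R A] : SymTen.TS R A n = elemAlg R A n := by
  classical
  refine le_antisymm (fun t ht => ?_) elemAlg_le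
  obtain ⟨w, hw⟩ := TSmap_surjective_of_flat (A := R) (B := A) (d := n) ⟨t, ht⟩
  rw [show t = SymTen.tmap R n (presMap R A) (w : Tp R (Pres R A) n) from (congrArg Subtype.val hw).symm]
  refine mem_of_invariant (MvPolynomial.basisMonomials A R) ∅
    ((Subalgebra.toSubmodule (elemAlg R A n)).comap (SymTen.tmap R n (presMap R A)).toLinearMap) ?_ _
    (fun σ _ => (mem_TS_iff_permL.mp w.2) σ)
  intro s c₀ hc₀
  show SymTen.tmap R n (presMap R A) (orbSum _ _ _) ∈ elemAlg R A n
  simp only [orbSum, map_sum, tmap_eq_map, PiTensorProduct.map_tprod, Finset.notMem_empty, if_false]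
  let v : Option (A →₀ ℕ) → A := fun o => o.elim 1 fun l => presMap R A (MvPolynomial.basisMonomials A R l)
  have horb : ((Fintype.piFinset fun _ : Fin n => s).filter fun c => wt c = wt c₀).map
      ⟨fun c i => some (c i), fun c c' h => funext fun i => Option.some_injective _ (congrFun h i)⟩
      = orbit (fun i => some (c₀ i)) := by
    ext d
    simp only [Finset.mem_map, Finset.mem_filter, Fintype.mem_piFinset, mem_orbit_iff]
    constructor
    · rintro ⟨c, ⟨-, hc⟩, rfl⟩
      obtain ⟨σ, -, hσ⟩ := exists_perm_of_wt ∅ hc (by simp)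
      exact ⟨σ, funext fun i => by simp [← hσ]⟩
    · rintro ⟨σ, rfl⟩
      exact ⟨c₀ ∘ σ, ⟨fun i => hc₀ _, wt_comp c₀ σ⟩, rfl⟩
  have := orbit_mem (R := R) (supp none (fun i => some (c₀ i))).card v none rfl _ rfl
  rw [← horb, Finset.sum_map] at this
  exact this

end Groth.Agent.UnivFlat23
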