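import Groth.Agent.HenselLib.Local
import Mathlib.FieldTheory.PurelyInseparable.Basic
import Mathlib.RingTheory.LocalRing.ResidueField.Basic
import Mathlib.RingTheory.Localization.AtPrime.Basic
import Mathlib.RingTheory.Ideal.GoingUp
import Mathlib.Data.Fintype.EquivFin

/-! A ring with involution whose fixed ring is strictly henselian is a product of strictly henselian rings. -/

universe u v

open Polynomial IsLocalRing

namespace Groth.Agent.UnivFlat23

theorem henselian_of_integral {H : Type u} {C : Type v} [CommRing H] [HenselianLocalRing H] [CommRing C]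
    [IsLocalRing C] [Algebra H C] [Algebra.IsIntegral H C] : HenselianLocalRing C := by
  have hc : (maximalIdeal C).comap (algebraMap H C) = maximalIdeal H :=
    IsLocalRing.eq_maximalIdeal (Ideal.isMaximal_comap_of_isIntegral_of_isMaximal (R := H) _)
  haveI := Groth.Agent.HenselLib.henselianRing_of_isIntegral (maximalIdeal H) C
  have hrad : ((maximalIdeal H).map (algebraMap H C)).radical = maximalIdeal C := by
    refine le_antisymm ((Ideal.IsPrime.radical_le_iff (maximalIdeal.isMaximal C).isPrime).2
      (Ideal.map_le_iff_le_comap.2 hc.ge)) ?_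
    rw [Ideal.radical_eq_sInf]
    refine le_sInf fun P ⟨hle, hP⟩ => ?_
    haveI := hP
    have : (P.comap (algebraMap H C)).IsMaximal := by
      rw [← (maximalIdeal.isMaximal H).eq_of_le (Ideal.comap_ne_top _ hP.ne_top)
        (Ideal.map_le_iff_le_comap.1 hle)]
      infer_instance
    rw [IsLocalRing.eq_maximalIdeal (Ideal.isMaximal_of_isIntegral_of_isMaximal_comap (R := H) P this)]
  haveI : HenselianRing C (maximalIdeal C) := hrad ▸
    Groth.Agent.HenselLib.henselianRing_radical ((maximalIdeal H).map (algebraMap H C))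
  exact Groth.Agent.HenselLib.henselianLocalRing_of_henselianRing

theorem sepClosed_of_integral {H : Type u} {C : Type v} [CommRing H] [IsLocalRing H]
    [IsSepClosed (ResidueField H)] [CommRing C] [IsLocalRing C] [Algebra H C] [Algebra.IsIntegral H C] :
    IsSepClosed (ResidueField C) := by
  have hc : (maximalIdeal C).comap (algebraMap H C) = maximalIdeal H :=
    IsLocalRing.eq_maximalIdeal (Ideal.isMaximal_comap_of_isIntegral_of_isMaximal (R := H) _)
  haveI : IsLocalHom (algebraMap H C) := ((local_hom_TFAE (algebraMap H C)).out 0 4 :).2 hc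
  haveI : Algebra.IsAlgebraic (ResidueField H) (ResidueField C) := ⟨fun z => by
    obtain ⟨z, rfl⟩ := residue_surjective z
    have h1 : IsIntegral H (residue C z) :=
      (Algebra.IsIntegral.isIntegral (R := H) z).map (IsScalarTower.toAlgHom H C (ResidueField C))
    exact h1.tower_top.isAlgebraic⟩
  exact Algebra.IsAlgebraic.isSepClosed (F := ResidueField H)

theorem exists_prod {S : Type u} {R : Type v} [CommRing S] [CommRing R] [Algebra S R] (lam : R ≃+* R)
    (hlam : Function.Involutive lam) (hfix : ∀ r : R, lam r = r ↔ r ∈ Set.range (algebraMap S R))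
    [HenselianLocalRing S] [IsSepClosed (ResidueField S)] :
    ∃ (ι : Type) (_ : Fintype ι) (T : ι → Type v) (_ : ∀ i, CommRing (T i))
      (_ : ∀ i, HenselianLocalRing (T i)),
      (∀ i, IsSepClosed (ResidueField (T i))) ∧ Nonempty (R ≃+* (∀ i, T i)) := by
  classical
  haveI hint : Algebra.IsIntegral S R := ⟨fun r => by
    obtain ⟨s, hs⟩ := (hfix (r + lam r)).1 (by rw [map_add, hlam r, add_comm])
    obtain ⟨t, ht⟩ := (hfix (r * lam r)).1 (by rw [map_mul, hlam r, mul_comm])
    refine ⟨X ^ 2 - C s * X + C t, by monicity!, ?_⟩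
    rw [← aeval_def]
    simp only [map_add, map_sub, map_mul, map_pow, aeval_X, aeval_C, hs, ht]
    ring⟩
  have hcomap : ∀ M : Ideal R, M.IsMaximal → M.comap (algebraMap S R) = maximalIdeal S := fun M hM => by
    haveI := hM
    exact IsLocalRing.eq_maximalIdeal (Ideal.isMaximal_comap_of_isIntegral_of_isMaximal (R := S) M)
  have hpair : ∀ M N : Ideal R, M.IsMaximal → N.IsMaximal → N = M ∨ N = M.comap lam.toRingHom := by
    intro M N hM hN
    haveI := hM
    haveI := hN
    have hM' : (M.comap lam.toRingHom).IsMaximal := Ideal.comap_isMaximal_of_surjective _ lam.surjective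
    have hsub : (N : Set R) ⊆ (M : Set R) ∪ (M.comap lam.toRingHom : Set R) := by
      intro x hx
      obtain ⟨t, ht⟩ := (hfix (x * lam x)).1 (by rw [map_mul, hlam x, mul_comm])
      have h1 : t ∈ N.comap (algebraMap S R) := by
        rw [Ideal.mem_comap, ht]; exact N.mul_mem_right _ hx
      rw [hcomap N hN, ← hcomap M hM, Ideal.mem_comap, ht] at h1
      rcases hM.isPrime.mem_or_mem h1 with h | h
      · exact Or.inl h
      · exact Or.inr h
    rcases Ideal.subset_union.1 hsub with h | h
    · exact Or.inl (hN.eq_of_le hM.ne_top h)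
    · exact Or.inr (hN.eq_of_le hM'.ne_top h)
  haveI : Finite (MaximalSpectrum R) := by
    rcases isEmpty_or_nonempty (MaximalSpectrum R) with h | ⟨⟨M₀⟩⟩
    · infer_instance
    have : Finite ({I : Ideal R | I.IsMaximal} : Set (Ideal R)) :=
      (Set.Finite.subset ((Set.finite_singleton (M₀.asIdeal.comap lam.toRingHom)).insert M₀.asIdeal)
        (fun N hN => (hpair M₀.asIdeal N M₀.isMaximal hN).elim Or.inl Or.inr)).to_subtype
    exact Finite.of_injective (β := ({I : Ideal R | I.IsMaximal} : Set (Ideal R)))
      (fun M => ⟨M.asIdeal, M.isMaximal⟩) (fun M N h => MaximalSpectrum.ext (congrArg Subtype.val h))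
  have hsep : ∀ M : MaximalSpectrum R, ∃ e : R, IsIdempotentElem e ∧ e ∉ M.asIdeal ∧
      ∀ N : Ideal R, N.IsMaximal → N ≠ M.asIdeal → e ∈ N := by
    intro M
    haveI := M.isMaximal
    by_cases hone : ∀ N : Ideal R, N.IsMaximal → N = M.asIdeal
    · exact ⟨1, IsIdempotentElem.one, fun h => M.isMaximal.ne_top ((Ideal.eq_top_iff_one _).2 h),
        fun N hN hne => absurd (hone N hN) hne⟩
    push_neg at hone
    obtain ⟨N₀, hN₀, hne⟩ := hone
    obtain ⟨x, hxM, hxN⟩ : ∃ x, x ∈ M.asIdeal ∧ x ∉ N₀ := by
      by_contra h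
      push_neg at h
      exact hne (M.isMaximal.eq_of_le hN₀.ne_top h).symm
    let E := Algebra.adjoin S ({x} : Set R)
    haveI : Module.Finite S E := Algebra.finite_adjoin_of_finite_of_isIntegral
      (Set.toFinite ({x} : Set R)) fun y _ => Algebra.IsIntegral.isIntegral y
    haveI : Algebra.IsIntegral E R := Algebra.IsIntegral.tower_top (R := S)
    haveI : (M.asIdeal.comap E.val.toRingHom).IsMaximal :=
      Ideal.isMaximal_comap_of_isIntegral_of_isMaximal (R := E) M.asIdeal
    obtain ⟨e, he, heM, heN⟩ := HenselLib.exists_separating_idem (A := S) (B := E)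
      (HenselLib.bijOn_idem (maximalIdeal S) E).surjOn (M.asIdeal.comap E.val.toRingHom)
    refine ⟨(e : R), he.map E.val, heM, fun N hN hNM => ?_⟩
    haveI := hN
    have hN' : N = N₀ := by
      rcases hpair M.asIdeal N M.isMaximal hN with h | h
      · exact absurd h hNM
      · rcases hpair M.asIdeal N₀ M.isMaximal hN₀ with h' | h'
        · exact absurd h' hne
        · exact h.trans h'.symm
    haveI : (N.comap E.val.toRingHom).IsMaximal :=
      Ideal.isMaximal_comap_of_isIntegral_of_isMaximal (R := E) N
    refine heN (N.comap E.val.toRingHom) inferInstance fun heq => hxN ?_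
    have : (⟨x, Algebra.subset_adjoin rfl⟩ : E) ∈ M.asIdeal.comap E.val.toRingHom := hxM
    rw [← heq] at this
    exact hN' ▸ (this : x ∈ N)
  have hbij := HenselLib.bijective_pi_localization hsep
  haveI := Fintype.ofFinite (MaximalSpectrum R)
  let ε := (Fintype.equivFin (MaximalSpectrum R) : MaximalSpectrum R ≃ _)
  haveI hloc : ∀ M : MaximalSpectrum R, Algebra.IsIntegral S (Localization.AtPrime M.asIdeal) := fun M => ⟨fun y => by
    obtain ⟨b, hb⟩ := hbij.2 (Function.update 0 M y)
    have h : algebraMap R (Localization.AtPrime M.asIdeal) b = y := by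
      have := congrFun hb M
      simpa using this
    rw [← h]
    exact (hint.isIntegral b).map (IsScalarTower.toAlgHom S R (Localization.AtPrime M.asIdeal))⟩
  refine ⟨_, inferInstance, fun i => Localization.AtPrime (ε.symm i).asIdeal, inferInstance,
    fun i => henselian_of_integral (H := S), fun i => sepClosed_of_integral (H := S), ⟨?_⟩⟩
  exact (RingEquiv.ofBijective _ hbij).trans
    (RingEquiv.piCongrLeft' (fun M : MaximalSpectrum R => Localization.AtPrime M.asIdeal) ε)

end Groth.Agent.UnivFlat23
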