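import Groth.Agent.TorFlip.Basic
import Mathlib.RingTheory.Finiteness.Basic
import Mathlib.LinearAlgebra.TensorProduct.RightExactness
import Mathlib.LinearAlgebra.TensorProduct.Pi
import Mathlib.LinearAlgebra.TensorProduct.Finiteness

/-! A map killing `Tor₁(-, N)` for all `N` factors through a free module. -/

set_option autoImplicit false
universe u

open CategoryTheory TensorProduct MonoidalCategory

namespace Groth.Agent.UnivFlat23

variable {R : Type u} [CommRing R] {M M' : Type u} [AddCommGroup M] [Module R M] [AddCommGroup M'] [Module R M']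

/-- Element form of the vanishing of `Tor₁ α` in the standard cover. -/
theorem rTensor_eq_zero_std (α : M →ₗ[R] M') (N : ModuleCat.{u} R)
    (h : ((CategoryTheory.Tor (ModuleCat.{u} R) 1).map (ModuleCat.ofHom α)).app N = 0)
    (z : M ⊗[R] ((TorFlip.K R).obj N : Type u))
    (hz : ((TorFlip.ι R).app N).hom.lTensor M z = 0) :
    α.rTensor ((TorFlip.K R).obj N : Type u) z = 0 := by
  have hT : HomologicalComplex.homologyMap (TorFlip.mapL R (ModuleCat.ofHom α) N) 1 = 0 := by
    have h1 := ((TorFlip.torT R 1).hom.app (ModuleCat.of R M)).app N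
    have hnat := congrArg (fun t => NatTrans.app t N) ((TorFlip.torT R 1).hom.naturality (ModuleCat.ofHom α))
    simp only [NatTrans.comp_app, h, Limits.zero_comp] at hnat
    haveI : IsIso (((TorFlip.torT R 1).hom.app (ModuleCat.of R M)).app N) := inferInstance
    exact (cancel_epi (((TorFlip.torT R 1).hom.app (ModuleCat.of R M)).app N)).1
      (hnat.symm.trans Limits.comp_zero.symm)
  obtain ⟨y, rfl⟩ := ((ShortComplex.ShortExact.moduleCat_exact_iff_function_exact _).1
    (TorFlip.rightMap_exact R (ModuleCat.of R M) N) z).1 hz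
  have := ConcreteCategory.congr_hom (TorFlip.rightMap_natL R (ModuleCat.ofHom α) N) y
  rw [hT] at this
  simp only [Limits.zero_comp] at this
  exact this.symm

/-- The same for an arbitrary projective cover. -/
theorem rTensor_eq_zero (α : M →ₗ[R] M')
    (h : ∀ (N : Type u) [AddCommGroup N] [Module R N],
      ((CategoryTheory.Tor (ModuleCat.{u} R) 1).map (ModuleCat.ofHom α)).app (ModuleCat.of R N) = 0)
    {P N : Type u} [AddCommGroup P] [Module R P] [Module.Projective R P] [AddCommGroup N] [Module R N]
    (p : P →ₗ[R] N) (hp : Function.Surjective p) (z : M ⊗[R] LinearMap.ker p)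
    (hz : (LinearMap.ker p).subtype.lTensor M z = 0) : α.rTensor _ z = 0 := by
  let No := ModuleCat.of R N
  let π : ((TorFlip.F R).obj No : Type u) →ₗ[R] N := ((TorFlip.π R).app No).hom
  let ι : ((TorFlip.K R).obj No : Type u) →ₗ[R] ((TorFlip.F R).obj No : Type u) := ((TorFlip.ι R).app No).hom
  have hπ : Function.Surjective π := (ModuleCat.epi_iff_surjective _).1 (TorFlip.epi_π R No)
  have hι : Function.Injective ι := (ModuleCat.mono_iff_injective _).1 (TorFlip.mono_ι R No)
  have hπι : π ∘ₗ ι = 0 := congrArg ModuleCat.Hom.hom (TorFlip.ι_π R No)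
  have hex : ∀ x, π x = 0 → ∃ k, ι k = x := by
    intro x hx
    exact ((ShortComplex.ShortExact.moduleCat_exact_iff_function_exact _).1
      (ShortComplex.exact_kernel ((TorFlip.π R).app No)) x).1 hx
  obtain ⟨φ, hφ⟩ := Module.projective_lifting_property π p hπ
  haveI : Module.Projective R ((TorFlip.F R).obj No : Type u) :=
    inferInstanceAs (Module.Projective R (N →₀ R))
  obtain ⟨ψ, hψ⟩ := Module.projective_lifting_property p π hp
  have hφ' : ∀ x, π (φ x) = p x := LinearMap.congr_fun hφ
  have hψ' : ∀ x, p (ψ x) = π x := LinearMap.congr_fun hψ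
  let e := LinearEquiv.ofInjective ι hι
  have hrange : ∀ x, π x = 0 → x ∈ LinearMap.range ι := fun x hx => hex x hx
  let φK : LinearMap.ker p →ₗ[R] ((TorFlip.K R).obj No : Type u) :=
    e.symm.toLinearMap ∘ₗ (φ.comp (LinearMap.ker p).subtype).codRestrict (LinearMap.range ι)
      (fun x => hrange _ (by rw [LinearMap.comp_apply, hφ']; exact x.2))
  have hφK : ι ∘ₗ φK = φ ∘ₗ (LinearMap.ker p).subtype := by
    refine LinearMap.ext fun x => ?_
    have := e.apply_symm_apply ((φ.comp (LinearMap.ker p).subtype).codRestrict (LinearMap.range ι)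
      (fun x => hrange _ (by rw [LinearMap.comp_apply, hφ']; exact x.2)) x)
    exact congrArg Subtype.val this
  let ψK : ((TorFlip.K R).obj No : Type u) →ₗ[R] LinearMap.ker p :=
    (ψ ∘ₗ ι).codRestrict _ (fun x => by
      rw [LinearMap.mem_ker, LinearMap.comp_apply, hψ']; exact LinearMap.congr_fun hπι x)
  let d : P →ₗ[R] LinearMap.ker p := (ψ ∘ₗ φ - LinearMap.id).codRestrict _ (fun x => by
    rw [LinearMap.mem_ker, LinearMap.sub_apply, map_sub, LinearMap.comp_apply, hψ', hφ',
      LinearMap.id_apply, sub_self])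
  have hcomp : ψK ∘ₗ φK = LinearMap.id + d ∘ₗ (LinearMap.ker p).subtype := by
    refine LinearMap.ext fun x => Subtype.ext ?_
    have := LinearMap.congr_fun hφK x
    simp only [LinearMap.comp_apply] at this
    show ψ (ι (φK x)) = (x : P) + (ψ (φ (x : P)) - (x : P))
    rw [this]; simp
  have h1 : α.rTensor _ (φK.lTensor M z) = 0 := by
    refine rTensor_eq_zero_std α No (h N) _ ?_
    show ι.lTensor M (φK.lTensor M z) = 0
    rw [← LinearMap.comp_apply, ← LinearMap.lTensor_comp, hφK, LinearMap.lTensor_comp,
      LinearMap.comp_apply, hz, map_zero]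
  have h2 : ψK.lTensor M (φK.lTensor M z) = z := by
    rw [← LinearMap.comp_apply, ← LinearMap.lTensor_comp, hcomp, LinearMap.lTensor_add,
      LinearMap.add_apply, LinearMap.lTensor_id, LinearMap.id_apply, LinearMap.lTensor_comp,
      LinearMap.comp_apply, hz, map_zero, add_zero]
  rw [← h2, ← LinearMap.comp_apply (f := α.rTensor _), LinearMap.rTensor_comp_lTensor,
    ← LinearMap.lTensor_comp_rTensor, LinearMap.comp_apply, h1, map_zero]

theorem factors_through_free [Module.FinitePresentation R M] (α : M →ₗ[R] M')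
    (h : ∀ (N : Type u) [AddCommGroup N] [Module R N],
      ((CategoryTheory.Tor (ModuleCat.{u} R) 1).map (ModuleCat.ofHom α)).app (ModuleCat.of R N) = 0) :
    ∃ (ι : Type u) (g : M →ₗ[R] (ι →₀ R)) (h : (ι →₀ R) →ₗ[R] M'), α = h ∘ₗ g := by
  classical
  obtain ⟨n, q, hq⟩ := Module.Finite.exists_fin' R M
  obtain ⟨m, a, ha⟩ : ∃ (m : ℕ) (a : (Fin m → R) →ₗ[R] (Fin n → R)),
      LinearMap.range a = LinearMap.ker q := by
    have hfg : (LinearMap.ker q).FG := Module.FinitePresentation.fg_ker q hq
    obtain ⟨m, v, hv⟩ := Submodule.fg_iff_exists_fin_generating_family.1 hfg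
    exact ⟨m, Fintype.linearCombination R v, by rw [Fintype.range_linearCombination, hv]⟩
  -- the transpose
  let c : Fin m → (Fin n → R) := fun i => a (Pi.single i 1)
  let t : (Fin n → R) →ₗ[R] (Fin m → R) :=
    LinearMap.pi fun i => Fintype.linearCombination R (c i)
  let Q := (Fin m → R) ⧸ LinearMap.range t
  let p : (Fin m → R) →ₗ[R] Q := Submodule.mkQ _
  have hkp : LinearMap.ker p = LinearMap.range t := Submodule.ker_mkQ _
  let t' : (Fin n → R) →ₗ[R] LinearMap.ker p := t.codRestrict _ (fun x => by rw [hkp]; exact ⟨x, rfl⟩)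
  have ht' : Function.Surjective t' := by
    rintro ⟨y, hy⟩
    obtain ⟨x, rfl⟩ : y ∈ LinearMap.range t := hkp ▸ hy
    exact ⟨x, rfl⟩
  let u : Fin n → M := fun j => q (Pi.single j 1)
  let z : M ⊗[R] LinearMap.ker p := ∑ j, u j ⊗ₜ t' (Pi.single j 1)
  have hz : (LinearMap.ker p).subtype.lTensor M z = 0 := by
    refine (TensorProduct.piScalarRight R R M (Fin m)).injective ?_
    rw [map_zero, map_sum, map_sum]
    ext i
    rw [Finset.sum_apply, Pi.zero_apply]
    have hrel : q (c i) = 0 := by
      rw [← LinearMap.mem_ker, ← ha]; exact ⟨_, rfl⟩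
    rw [← hrel]
    conv_rhs => rw [pi_eq_sum_univ' (c i), map_sum]
    refine Finset.sum_congr rfl fun j _ => ?_
    simp [u, t', t, Fintype.linearCombination_apply, map_smul, Pi.single_apply]
  have hα := rTensor_eq_zero α h p (Submodule.mkQ_surjective _) z hz
  -- the tautological element of `M' ⊗ Rⁿ` comes from `M' ⊗ ker t'`
  let w : M' ⊗[R] (Fin n → R) := ∑ j, α (u j) ⊗ₜ Pi.single j 1
  have hw : t'.lTensor M' w = 0 := by
    rw [← hα]; simp only [w, z, map_sum, LinearMap.lTensor_tmul, LinearMap.rTensor_tmul]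
  obtain ⟨y, hy⟩ := (lTensor_exact M' (M := ↥(LinearMap.ker t')) (N := Fin n → R) (P := ↥(LinearMap.ker p))
    (f := (LinearMap.ker t').subtype) (g := t') (LinearMap.exact_subtype_ker_map t') ht' w).1 hw
  -- each element of `ker t'` is a functional on `M`
  let G : LinearMap.ker t' →ₗ[R] (M →ₗ[R] R) :=
    { toFun := fun v => ((LinearMap.ker q).liftQ (Fintype.linearCombination R (v : Fin n → R)) (by
          rw [← ha]
          rintro _ ⟨x, rfl⟩
          rw [LinearMap.mem_ker, pi_eq_sum_univ' x, map_sum, map_sum]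
          refine Finset.sum_eq_zero fun i _ => ?_
          have hv : t (v : Fin n → R) i = 0 :=
            congrFun (congrArg Subtype.val (LinearMap.mem_ker.1 v.2)) i
          rw [map_smul, map_smul, smul_eq_mul]
          refine mul_eq_zero_of_right _ ?_
          rw [← hv]
          simp only [t, c, LinearMap.pi_apply, Fintype.linearCombination_apply, smul_eq_mul]
          exact Finset.sum_congr rfl fun j _ => mul_comm _ _)) ∘ₗ
        (q.quotKerEquivOfSurjective hq).symm.toLinearMap
      map_add' := fun v w => by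
        refine LinearMap.ext fun x => ?_
        obtain ⟨x, rfl⟩ := hq x
        have h1 : (q.quotKerEquivOfSurjective hq).symm (q x) = Submodule.Quotient.mk x :=
          (LinearEquiv.symm_apply_eq _).2 rfl
        simp [h1, Fintype.linearCombination_apply, mul_add, Finset.sum_add_distrib]
      map_smul' := fun r v => by
        refine LinearMap.ext fun x => ?_
        obtain ⟨x, rfl⟩ := hq x
        have h1 : (q.quotKerEquivOfSurjective hq).symm (q x) = Submodule.Quotient.mk x :=
          (LinearEquiv.symm_apply_eq _).2 rfl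
        simp [h1, Fintype.linearCombination_apply, Finset.mul_sum, mul_left_comm] }
  have hG : ∀ v j, G v (u j) = (v : Fin n → R) j := by
    intro v j
    have h1 : (q.quotKerEquivOfSurjective hq).symm (q (Pi.single j 1)) = Submodule.Quotient.mk (Pi.single j 1) :=
      (LinearEquiv.symm_apply_eq _).2 rfl
    simp [G, u, h1, Fintype.linearCombination_apply, Pi.single_apply]
  obtain ⟨S, rfl⟩ := TensorProduct.exists_finset y
  refine ⟨M' × ↥(LinearMap.ker t'), ∑ i ∈ S, Finsupp.lsingle i ∘ₗ G i.2,
    Finsupp.linearCombination R (fun i => i.1), ?_⟩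
  apply LinearMap.cancel_right hq |>.1
  refine LinearMap.pi_ext' fun j => LinearMap.ext_ring ?_
  simp only [LinearMap.comp_apply, LinearMap.single_apply, LinearMap.sum_apply, map_sum,
    Finsupp.lsingle_apply, Finsupp.linearCombination_single]
  have := congrArg (fun t => TensorProduct.piScalarRight R R M' (Fin n) t j) hy
  simp only [w, map_sum, LinearMap.lTensor_tmul, Finset.sum_apply, piScalarRight_apply,
    piScalarRightHom_tmul] at this
  rw [show q (Pi.single j 1) = u j from rfl]
  simp only [hG]
  simpa [Pi.single_apply] using this.symm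

end Groth.Agent.UnivFlat23
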