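import Groth.Agent.ZeroCyc.Law
import Groth.Prelude.Def_PolLaw2
import Groth.Prelude.Def_W4c5normfunctorschNorm
import Mathlib.RingTheory.Norm.Basic
import Mathlib.RingTheory.IsTensorProduct

/-! The norm commutes with base change, through divided power algebras. -/

universe u

open scoped TensorProduct

namespace Groth.Agent.UnivFlat23

variable {R R' Q Q' : Type u} [CommRing R] [CommRing R'] [Algebra R R']
  [CommRing Q] [Algebra R Q] [CommRing Q'] [Algebra R Q'] [Algebra Q Q'] [Algebra R' Q']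
  [IsScalarTower R Q Q'] [IsScalarTower R R' Q'] [Algebra.IsPushout R R' Q Q']

theorem bcAlong_tmul {X Y : Type u} [AddCommGroup X] [Module R X] [AddCommGroup Y] [Module R Y] [Module Q Y]
    [IsScalarTower R Q Y] (g : X →ₗ[R] Y) (P : Type u) [CommRing P] [Algebra R P] [Algebra Q P]
    [IsScalarTower R Q P] (p : P) (x : X) :
    PolLaw.bcAlong g P (p ⊗ₜ[R] x) = p ⊗ₜ[Q] g x := by
  simp [PolLaw.bcAlong]

theorem norm_bcAlong (P : Type u) [CommRing P] [Algebra R P] [Algebra Q P] [IsScalarTower R Q P] (z : P ⊗[R] R') :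
    Algebra.norm P (PolLaw.bcAlong (Q := Q) (IsScalarTower.toAlgHom R R' Q').toLinearMap P z) = Algebra.norm P z := by
  haveI : Algebra.IsPushout R Q R' Q' := Algebra.IsPushout.symm inferInstance
  let e : P ⊗[R] R' ≃ₐ[P] P ⊗[Q] Q' :=
    ((Algebra.TensorProduct.congr AlgEquiv.refl (Algebra.IsPushout.equiv R Q R' Q').symm).trans
      (Algebra.TensorProduct.cancelBaseChange R Q P P R')).symm
  have he : ∀ w, e w = PolLaw.bcAlong (Q := Q) (IsScalarTower.toAlgHom R R' Q').toLinearMap P w := by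
    intro w
    induction w with
    | zero => simp
    | tmul p b =>
      rw [bcAlong_tmul]
      simp [e, Algebra.IsPushout.equiv_tmul]
    | add x y hx hy => rw [map_add, map_add, hx, hy]
  rw [← he, Algebra.norm_eq_of_algEquiv]

theorem norm_comp (d : ℕ) [Module.Free R R'] [Module.Finite R R'] [Module.Free Q Q'] [Module.Finite Q Q']
    (hd : Module.finrank R R' = d) (hd' : Module.finrank Q Q' = d)
    {C : Type u} [CommRing C] [Algebra R C] (γ : PolLaw.MulLaw R R' C d) (hγ : PolLaw.IsGammaD γ)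
    (π : C →ₐ[R] R) (hπ : PolLaw.MulLaw.postcomp π γ = PolLaw.normLaw R R' d hd)
    {C' : Type u} [CommRing C'] [Algebra R C'] [Algebra Q C'] [IsScalarTower R Q C']
    (γ' : PolLaw.MulLaw Q Q' C' d)
    (π' : C' →ₐ[Q] Q) (hπ' : PolLaw.MulLaw.postcomp π' γ' = PolLaw.normLaw Q Q' d hd')
    (θ : C →ₐ[R] C')
    (hθ : ∀ (P : Type u) [CommRing P] [Algebra R P] [Algebra Q P] [IsScalarTower R Q P] (z : P ⊗[R] R'),
      γ'.law.toFun' P (PolLaw.bcAlong (IsScalarTower.toAlgHom R R' Q').toLinearMap P z) =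
        PolLaw.bcAlong θ.toLinearMap P (γ.law.toFun' P z)) :
    ∀ c : C, π' (θ c) = algebraMap R Q (π c) := by
  let g₁ : C →ₐ[R] Q := (π'.restrictScalars R).comp θ
  let g₂ : C →ₐ[R] Q := (Algebra.ofId R Q).comp π
  suffices h : g₁ = g₂ from fun c => AlgHom.congr_fun h c
  obtain ⟨f, -, hf⟩ := hγ Q (PolLaw.MulLaw.postcomp g₁ γ)
  refine (hf g₁ rfl).trans (hf g₂ ?_).symm
  refine ZeroCyc.law_ext fun S _ _ _ x => ?_
  show g₂.toLinearMap.lTensor S (γ.law.toFun' S x) = g₁.toLinearMap.lTensor S (γ.law.toFun' S x)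
  letI : Algebra Q (S ⊗[R] Q) := Algebra.TensorProduct.rightAlgebra
  haveI : IsScalarTower R Q (S ⊗[R] Q) := IsScalarTower.of_algebraMap_eq fun r => by
    rw [RingHom.algebraMap_toAlgebra]
    exact ((Algebra.TensorProduct.includeRight (R := R) (A := S) (B := Q)).commutes r).symm
  let P := S ⊗[R] Q
  let ι : S →ₐ[R] P := Algebra.TensorProduct.includeLeft
  let Φ : (C →ₐ[R] Q) → (P ⊗[R] C →ₗ[R] P) := fun g =>
    TensorProduct.lift ((LinearMap.mul R P).compl₂ ((Algebra.TensorProduct.includeRight.comp g).toLinearMap))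
  have hΦ : ∀ g w, Φ g (ι.toLinearMap.rTensor C w) = g.toLinearMap.lTensor S w := by
    intro g w
    induction w with
    | zero => simp
    | tmul s c =>
      show (s ⊗ₜ[R] (1 : Q)) * ((1 : S) ⊗ₜ[R] g c) = s ⊗ₜ[R] g c
      rw [Algebra.TensorProduct.tmul_mul_tmul, mul_one, one_mul]
    | add a b ha hb => rw [map_add, map_add, ha, hb, map_add]
  rw [← hΦ, ← hΦ, ZeroCyc.law_natural γ.law ι x]
  set y := ι.toLinearMap.rTensor R' x
  have h2 : ∀ w, Φ g₂ w = (TensorProduct.rid R P) (π.toLinearMap.lTensor P w) := by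
    intro w
    induction w with
    | zero => simp
    | tmul p c =>
      show p * ((1 : S) ⊗ₜ[R] algebraMap R Q (π c)) = π c • p
      rw [Algebra.smul_def, mul_comm]
      congr 1
      exact (Algebra.TensorProduct.includeRight (R := R) (A := S) (B := Q)).commutes (π c)
    | add a b ha hb => rw [map_add, map_add, map_add, ha, hb]
  have h1 : ∀ w, Φ g₁ w = (TensorProduct.rid Q P) (π'.toLinearMap.lTensor P (PolLaw.bcAlong θ.toLinearMap P w)) := by
    intro w
    induction w with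
    | zero => simp
    | tmul p c =>
      rw [bcAlong_tmul]
      show p * ((1 : S) ⊗ₜ[R] π' (θ c)) = π' (θ c) • p
      rw [Algebra.smul_def, mul_comm]
      rfl
    | add a b ha hb => rw [map_add, map_add, map_add, map_add, ha, hb]
  rw [h1, h2, ← hθ P y]
  have e1 : π.toLinearMap.lTensor P (γ.law.toFun' P y) = Algebra.norm P y ⊗ₜ[R] (1 : R) := by
    rw [← PolLaw.normLaw_apply R R' d hd P y, ← hπ]
    rfl
  have e2 : π'.toLinearMap.lTensor P (γ'.law.toFun' P (PolLaw.bcAlong (Q := Q) (IsScalarTower.toAlgHom R R' Q').toLinearMap P y))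
      = Algebra.norm P (PolLaw.bcAlong (Q := Q) (IsScalarTower.toAlgHom R R' Q').toLinearMap P y) ⊗ₜ[Q] (1 : Q) := by
    rw [← PolLaw.normLaw_apply Q Q' d hd' P, ← hπ']
    rfl
  rw [e1, e2, norm_bcAlong]
  simp

end Groth.Agent.UnivFlat23
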