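import Groth.Agent.DiffOp.Basic
import Mathlib.RingTheory.Etale.Basic
import Mathlib.RingTheory.IsTensorProduct

/-! Differential operators extend uniquely along formally étale maps; principal parts exist. -/

universe u

open TensorProduct
open Diff16

namespace Groth.Agent.UnivFlat23

open Groth.Agent.DiffOp

variable (R S S' : Type u) [CommRing R] [CommRing S] [CommRing S'] [Algebra R S] [Algebra R S']
  [Algebra S S'] [IsScalarTower R S S']

/-- `S ⊗ S → S' ⊗ S`. -/
noncomputable def chi : S ⊗[R] S →ₐ[R] S' ⊗[R] S :=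
  Algebra.TensorProduct.map (IsScalarTower.toAlgHom R S S') (AlgHom.id R S)

/-- Multiplication `S' ⊗ S → S'`. -/
noncomputable def mult : S' ⊗[R] S →ₐ[S'] S' :=
  Algebra.TensorProduct.lift (Algebra.ofId S' S') (IsScalarTower.toAlgHom R S S') fun _ _ => Commute.all _ _

theorem ker_mult_le :
    RingHom.ker (mult R S S').toRingHom ≤ (KaehlerDifferential.ideal R S).map (chi R S S').toRingHom := by
  intro x hx
  have key : ∀ y : S' ⊗[R] S, y - (mult R S S' y) ⊗ₜ[R] (1 : S) ∈
      (KaehlerDifferential.ideal R S).map (chi R S S').toRingHom := by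
    intro y
    induction y with
    | zero => simp
    | add a b ha hb =>
      rw [map_add, TensorProduct.add_tmul, show a + b - (mult R S S' a ⊗ₜ[R] (1:S) + mult R S S' b ⊗ₜ[R] (1:S))
        = (a - mult R S S' a ⊗ₜ[R] (1:S)) + (b - mult R S S' b ⊗ₜ[R] (1:S)) by abel]
      exact add_mem ha hb
    | tmul p q =>
      have h1 : p ⊗ₜ[R] q - (mult R S S' (p ⊗ₜ q)) ⊗ₜ[R] (1 : S) =
          (p ⊗ₜ[R] (1 : S)) * (chi R S S') (delta R S q) := by
        simp [mult, chi, delta, mul_sub, Algebra.TensorProduct.tmul_mul_tmul]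
      rw [h1]
      refine Ideal.mul_mem_left _ _ (Ideal.mem_map_of_mem _ ?_)
      rw [← span_delta]
      exact Ideal.subset_span ⟨q, rfl⟩
  have := key x
  rwa [show mult R S S' x = 0 from hx, TensorProduct.zero_tmul, sub_zero] at this

/-- The ideal cutting out the target of the lifting. -/
noncomputable def cutIdeal (k : ℕ) : Ideal (S' ⊗[R] S) := RingHom.ker (mult R S S').toRingHom ^ (k + 1)

variable {R S S'} {M N' : Type u} [AddCommGroup M] [Module S M] [Module R M] [IsScalarTower R S M]
  [AddCommGroup N'] [Module S' N'] [Module S N'] [IsScalarTower S S' N'] [Module R N']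
  [IsScalarTower R S' N'] [IsScalarTower R S N']

/-- `p ⊗ q ↦ (m ↦ p • E (q • m))`. -/
noncomputable def big (E : M →ₗ[R] N') : S' ⊗[R] S →ₗ[R] (M →ₗ[R] N') :=
  TensorProduct.lift
    { toFun := fun p =>
        { toFun := fun q => p • (E ∘ₗ (DistribSMul.toLinearMap R M q))
          map_add' := fun q q' => LinearMap.ext fun m => by simp [add_smul]
          map_smul' := fun r q => LinearMap.ext fun m => by simp [smul_assoc, smul_comm r p] }
      map_add' := fun p p' => LinearMap.ext fun q => LinearMap.ext fun m => by simp [add_smul]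
      map_smul' := fun r p => LinearMap.ext fun q => LinearMap.ext fun m => by simp }

theorem big_tmul (E : M →ₗ[R] N') (p : S') (q : S) (m : M) : big E (p ⊗ₜ[R] q) m = p • E (q • m) := rfl

theorem big_mul (E : M →ₗ[R] N') (p : S') (q : S) (x : S' ⊗[R] S) (m : M) :
    big E ((p ⊗ₜ[R] q) * x) m = p • big E x (q • m) := by
  induction x with
  | zero => simp
  | tmul a b => simp [big_tmul, mul_smul, smul_comm q b]
  | add x y hx hy => rw [mul_add, map_add, map_add, LinearMap.add_apply, LinearMap.add_apply, hx, hy, smul_add]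

/-- The ideal of elements killing `E`. -/
noncomputable def killIdeal (E : M →ₗ[R] N') : Ideal (S' ⊗[R] S) where
  carrier := {x | ∀ m, big E x m = 0}
  add_mem' {x y} hx hy m := by simp [map_add, hx m, hy m]
  zero_mem' m := by simp
  smul_mem' c x hx := by
    intro m
    rw [smul_eq_mul]
    induction c with
    | zero => simp
    | tmul p q => rw [big_mul, hx, smul_zero]
    | add y z hy hz => rw [add_mul, map_add, LinearMap.add_apply, hy, hz, add_zero]

theorem big_chi (E : M →ₗ[R] N') (x : S ⊗[R] S) (m : M) : big E (chi R S S' x) m = phi E m x := by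
  induction x with
  | zero => simp
  | tmul a b => simp [chi, big_tmul, algebraMap_smul]
  | add x y hx hy => rw [map_add, map_add, LinearMap.add_apply, hx, hy, map_add]

theorem cutIdeal_le (E : M →ₗ[R] N') {k : ℕ} (hE : IsDiffOpLE R S M N' k E) :
    cutIdeal R S S' k ≤ killIdeal E := by
  refine (Ideal.pow_right_mono (ker_mult_le R S S') (k + 1)).trans ?_
  rw [← Ideal.map_pow, Ideal.map_le_iff_le_comap]
  intro x hx m
  show big E (chi R S S' x) m = 0
  rw [big_chi]
  exact (le_iff_pow E).1 hE hx m

variable [Algebra.FormallyEtale S S']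

variable (R S S') in
/-- The two embeddings of `S'` into `(S' ⊗ S)/J^{k+1}`: the lift of the identity. -/
theorem exists_sigma (k : ℕ) : ∃ σ : S' → (S' ⊗[R] S) ⧸ cutIdeal R S S' k,
    (∀ a b, σ (a + b) = σ a + σ b) ∧ (∀ a b, σ (a * b) = σ a * σ b) ∧
    (∀ s : S, σ (algebraMap S S' s) = Ideal.Quotient.mk _ ((1 : S') ⊗ₜ[R] s)) ∧
    ∀ q w, Ideal.Quotient.mk (cutIdeal R S S' k) w = σ q → mult R S S' w = q := by
  let I := cutIdeal R S S' k
  letI : Algebra S ((S' ⊗[R] S) ⧸ I) :=
    ((Ideal.Quotient.mk I).comp (Algebra.TensorProduct.includeRight (R := R) (A := S') (B := S)).toRingHom).toAlgebra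
  let g₀ : (S' ⊗[R] S) ⧸ I →+* S' := Ideal.Quotient.lift I (mult R S S').toRingHom
    (fun x hx => (Ideal.pow_le_self (Nat.succ_ne_zero k) hx : _))
  have hc : ∀ s : S, mult R S S' ((1 : S') ⊗ₜ[R] s) = algebraMap S S' s := fun s => by simp [mult]
  let g : (S' ⊗[R] S) ⧸ I →ₐ[S] S' := { g₀ with commutes' := hc }
  have hg : Function.Surjective g := fun p => ⟨Ideal.Quotient.mk I (p ⊗ₜ 1), by
    show mult R S S' (p ⊗ₜ[R] (1 : S)) = p
    simp [mult]⟩
  have hker : IsNilpotent (RingHom.ker (g : (S' ⊗[R] S) ⧸ I →+* S')) := by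
    refine ⟨k + 1, le_bot_iff.1 ?_⟩
    have h1 : RingHom.ker (g : (S' ⊗[R] S) ⧸ I →+* S') ≤
        (RingHom.ker (mult R S S').toRingHom).map (Ideal.Quotient.mk I) := by
      intro x hx
      obtain ⟨w, rfl⟩ := Ideal.Quotient.mk_surjective x
      exact Ideal.mem_map_of_mem _ hx
    refine (Ideal.pow_right_mono h1 _).trans ?_
    rw [← Ideal.map_pow]
    exact le_of_eq (Ideal.map_quotient_self I)
  let σ := Algebra.FormallySmooth.liftOfSurjective (AlgHom.id S S') g hg hker
  refine ⟨σ, map_add σ, map_mul σ, fun s => σ.commutes s, fun q w hw => ?_⟩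
  have := Algebra.FormallySmooth.liftOfSurjective_apply (AlgHom.id S S') g hg hker q
  rw [show σ q = Ideal.Quotient.mk I w from hw.symm] at this
  exact this

/-- Vanishing of an operator over `S'` which kills the image of `M`. -/
theorem ext_zero {M' : Type u} [AddCommGroup M'] [Module S M'] [Module S' M'] [IsScalarTower S S' M']
    [Module R M'] [IsScalarTower R S' M'] (j : M →ₗ[S] M') (hj : IsBaseChange S' j)
    {k : ℕ} (F : M' →ₗ[R] N') (hF : IsDiffOpLE R S' M' N' k F) (h0 : ∀ m, F (j m) = 0) : F = 0 := by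
  let I' := KaehlerDifferential.ideal R S' ^ (k + 1)
  let χ' : S' ⊗[R] S →ₐ[R] S' ⊗[R] S' :=
    Algebra.TensorProduct.map (AlgHom.id R S') (IsScalarTower.toAlgHom R S S')
  have hχ : ∀ x m, phi F (j m) (χ' x) = 0 := by
    intro x m
    induction x with
    | zero => simp
    | tmul a b =>
      show a • F (algebraMap S S' b • j m) = 0
      rw [algebraMap_smul, ← j.map_smul, h0, smul_zero]
    | add x y hx hy => rw [map_add, map_add, hx, hy, add_zero]
  letI : Algebra S ((S' ⊗[R] S') ⧸ I') :=
    (((Ideal.Quotient.mk I').comp (Algebra.TensorProduct.includeRight (R := R) (A := S') (B := S')).toRingHom).comp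
      (algebraMap S S')).toAlgebra
  obtain ⟨σ, hσa, hσm, hσs, hσ⟩ := exists_sigma R S S' k
  have hle : cutIdeal R S S' k ≤ I'.comap χ'.toRingHom := by
    rw [← Ideal.map_le_iff_le_comap, cutIdeal, Ideal.map_pow]
    refine Ideal.pow_right_mono (Ideal.map_le_iff_le_comap.2 fun x hx => ?_) _
    show Algebra.TensorProduct.lmul' R (χ' x) = 0
    rw [← show mult R S S' x = 0 from hx]
    clear hx
    induction x with
    | zero => simp
    | tmul a b => simp [χ', mult]
    | add x y hx hy => rw [map_add, map_add, map_add, hx, hy]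
  let ψ : (S' ⊗[R] S) ⧸ cutIdeal R S S' k →+* (S' ⊗[R] S') ⧸ I' :=
    Ideal.Quotient.lift _ ((Ideal.Quotient.mk I').comp χ'.toRingHom)
      (fun x hx => Ideal.Quotient.eq_zero_iff_mem.2 (hle hx))
  let g₁ : S' →ₐ[S] (S' ⊗[R] S') ⧸ I' :=
    { (Ideal.Quotient.mk I').comp (Algebra.TensorProduct.includeRight (R := R) (A := S') (B := S')).toRingHom with
      commutes' := fun _ => rfl }
  let g₂ : S' →ₐ[S] (S' ⊗[R] S') ⧸ I' :=
    { toFun := fun q => ψ (σ q)
      map_one' := by
        rw [← map_one (algebraMap S S'), hσs]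
        show Ideal.Quotient.mk I' (χ' ((1 : S') ⊗ₜ[R] (1 : S))) = 1
        rw [← Algebra.TensorProduct.one_def, map_one, map_one]
      map_mul' := fun a b => by rw [hσm, map_mul]
      map_zero' := by
        have : σ 0 = 0 := by have := hσa 0 0; rw [add_zero] at this; exact left_eq_add.1 this
        rw [this, map_zero]
      map_add' := fun a b => by rw [hσa, map_add]
      commutes' := fun s => by
        rw [hσs]
        show Ideal.Quotient.mk I' (χ' ((1 : S') ⊗ₜ[R] s)) = Ideal.Quotient.mk I' ((1 : S') ⊗ₜ[R] algebraMap S S' s)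
        simp [χ'] }
  have hnil : IsNilpotent ((KaehlerDifferential.ideal R S').map (Ideal.Quotient.mk I')) := by
    refine ⟨k + 1, ?_⟩
    rw [← Ideal.map_pow]
    exact Ideal.map_quotient_self I'
  have hg : g₁ = g₂ := by
    refine Algebra.FormallyUnramified.ext (I := (KaehlerDifferential.ideal R S').map (Ideal.Quotient.mk I')) hnil
      fun q => ?_
    obtain ⟨w, hw⟩ := Ideal.Quotient.mk_surjective (σ q)
    rw [show g₂ q = Ideal.Quotient.mk I' (χ' w) by
      show ψ (σ q) = _
      rw [← hw]
      rfl]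
    rw [Ideal.Quotient.eq, show g₁ q = Ideal.Quotient.mk I' ((1 : S') ⊗ₜ[R] q) from rfl, ← map_sub]
    refine Ideal.mem_map_of_mem _ ?_
    rw [KaehlerDifferential.ideal, RingHom.mem_ker, map_sub, sub_eq_zero,
      Algebra.TensorProduct.lmul'_apply_tmul, one_mul]
    refine ((?_ : Algebra.TensorProduct.lmul' R (χ' w) = mult R S S' w).trans (hσ q w hw)).symm
    clear hw
    induction w with
    | zero => simp
    | tmul a b => simp [χ', mult]
    | add x y hx hy => rw [map_add, map_add, map_add, hx, hy]
  have key : ∀ (q : S') m, F (q • j m) = 0 := by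
    intro q m
    obtain ⟨w, hw⟩ := Ideal.Quotient.mk_surjective (σ q)
    have h1 : Ideal.Quotient.mk I' ((1 : S') ⊗ₜ[R] q) = Ideal.Quotient.mk I' (χ' w) := by
      have := AlgHom.congr_fun hg q
      rw [show g₂ q = ψ (σ q) from rfl, ← hw] at this
      exact this
    have h2 : phi F (j m) ((1 : S') ⊗ₜ[R] q - χ' w) = 0 :=
      (le_iff_pow F).1 hF (Ideal.Quotient.eq.1 h1) (j m)
    rw [map_sub, hχ, sub_zero, phi_tmul, one_smul] at h2
    exact h2
  refine LinearMap.ext fun x => ?_
  obtain ⟨t, rfl⟩ := hj.equiv.surjective x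
  induction t with
  | zero => simp
  | tmul a m => rw [IsBaseChange.equiv_tmul]; exact key _ m
  | add a b ha hb => rw [map_add, map_add, ha, hb]; simp

/-- **Unique extension** of differential operators along a formally étale map. -/
theorem existsUnique_extension {M' : Type u} [AddCommGroup M'] [Module S M'] [Module S' M']
    [IsScalarTower S S' M'] [Module R M'] [IsScalarTower R S' M'] [IsScalarTower R S M']
    (j : M →ₗ[S] M') (hj : IsBaseChange S' j) {k : ℕ} (E : M →ₗ[R] N') (hE : IsDiffOpLE R S M N' k E) :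
    ∃! D' : M' →ₗ[R] N', IsDiffOpLE R S' M' N' k D' ∧ D' ∘ₗ j.restrictScalars R = E := by
  obtain ⟨σ, hσa, hσm, hσs, hσ⟩ := exists_sigma R S S' k
  let Φ : (S' ⊗[R] S) ⧸ cutIdeal R S S' k →+ (M →ₗ[R] N') :=
    QuotientAddGroup.lift (cutIdeal R S S' k).toAddSubgroup (big E).toAddMonoidHom
      (fun x hx => LinearMap.ext (cutIdeal_le E hE hx))
  have hΦ : ∀ x, Φ (Ideal.Quotient.mk _ x) = big E x := fun _ => rfl
  have hbal : ∀ (s : S) (a : S') (m : M), Φ (σ (s • a)) m = Φ (σ a) (s • m) := by
    intro s a m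
    rw [Algebra.smul_def, hσm, hσs]
    obtain ⟨w, hw⟩ := Ideal.Quotient.mk_surjective (σ a)
    rw [← hw, ← map_mul, hΦ, hΦ, big_mul, one_smul]
  let L₀ : S' ⊗[S] M →+ N' :=
    TensorProduct.liftAddHom
      (AddMonoidHom.mk' (fun a => (Φ (σ a)).toAddMonoidHom) fun a b => by rw [hσa, map_add]; rfl)
      hbal
  have hmk : ∀ (r : R) (a : S') (m : M), Φ (σ (algebraMap R S' r * a)) m = r • Φ (σ a) m := by
    intro r a m
    rw [IsScalarTower.algebraMap_apply R S S', ← Algebra.smul_def, hbal, algebraMap_smul, LinearMap.map_smul]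
  let D' : M' →ₗ[R] N' :=
    { toFun := fun x => L₀ (hj.equiv.symm x)
      map_add' := fun x y => by rw [map_add, map_add]
      map_smul' := fun r x => by
        rw [← algebraMap_smul S' r x, map_smul, RingHom.id_apply]
        induction hj.equiv.symm x with
        | zero => simp
        | tmul a m =>
          show Φ (σ (algebraMap R S' r * a)) m = r • Φ (σ a) m
          exact hmk r a m
        | add a b ha hb => rw [smul_add, map_add, ha, hb, map_add, smul_add] }
  have hD'j : ∀ a m, D' (a • j m) = Φ (σ a) m := by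
    intro a m
    show L₀ (hj.equiv.symm (a • j m)) = _
    rw [← hj.equiv_tmul, LinearEquiv.symm_apply_apply]
    rfl
  have hext : D' ∘ₗ j.restrictScalars R = E := by
    refine LinearMap.ext fun m => ?_
    show D' (j m) = E m
    rw [← one_smul S' (j m), hD'j, ← map_one (algebraMap S S'), hσs, hΦ, big_tmul, one_smul, one_smul]
  have hop : IsDiffOpLE R S' M' N' k D' := by
    refine (le_iff_pow D').2 fun x hx => ?_
    intro t
    obtain ⟨t, rfl⟩ := hj.equiv.surjective t
    induction t with
    | zero =>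
      rw [map_zero]
      clear hx
      induction x with
      | zero => simp
      | tmul a b => simp
      | add y z hy hz => rw [map_add, hy, hz, add_zero]
    | tmul c m =>
      rw [IsBaseChange.equiv_tmul]
      -- the ring map `S' ⊗ S' → (S' ⊗ S)/J^{k+1}`
      let sR : S' →ₐ[R] (S' ⊗[R] S) ⧸ cutIdeal R S S' k :=
        { toFun := σ
          map_one' := by rw [← map_one (algebraMap S S'), hσs]; rfl
          map_mul' := hσm
          map_zero' := by have := hσa 0 0; rw [add_zero] at this; exact left_eq_add.1 this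
          map_add' := hσa
          commutes' := fun r => by
            show σ (algebraMap R S' r) = _
            rw [IsScalarTower.algebraMap_apply R S S', hσs, ← Ideal.Quotient.mk_algebraMap]
            congr 1
            exact (Algebra.TensorProduct.includeRight (R := R) (A := S') (B := S)).commutes r }
      let Ψ : S' ⊗[R] S' →ₐ[R] (S' ⊗[R] S) ⧸ cutIdeal R S S' k :=
        Algebra.TensorProduct.lift
          ((Ideal.Quotient.mkₐ R _).comp Algebra.TensorProduct.includeLeft) sR fun _ _ => Commute.all _ _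
      have h1 : ∀ y, phi D' (c • j m) y = Φ (Ψ y * σ c) m := by
        intro y
        induction y with
        | zero => simp
        | tmul a b =>
          rw [phi_tmul, smul_smul, hD'j, hσm, Algebra.TensorProduct.lift_tmul]
          obtain ⟨w, hw⟩ := Ideal.Quotient.mk_surjective (σ b * σ c)
          show a • Φ (σ b * σ c) m = Φ (Ideal.Quotient.mk _ (a ⊗ₜ[R] (1 : S)) * σ b * σ c) m
          rw [mul_assoc, ← hw, ← map_mul, hΦ, hΦ, big_mul, one_smul]
        | add y z hy hz => rw [map_add, map_add, add_mul, map_add, LinearMap.add_apply, hy, hz]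
      rw [h1]
      have h2 : Ψ x = 0 := by
        have hle : (KaehlerDifferential.ideal R S').map Ψ.toRingHom ≤
            (RingHom.ker (mult R S S').toRingHom).map (Ideal.Quotient.mk (cutIdeal R S S' k)) := by
          rw [← span_delta, Ideal.map_span, Ideal.span_le]
          rintro _ ⟨_, ⟨q, rfl⟩, rfl⟩
          obtain ⟨w, hw⟩ := Ideal.Quotient.mk_surjective (σ q)
          have : Ψ (delta R S' q) = Ideal.Quotient.mk _ (w - q ⊗ₜ[R] (1 : S)) := by
            have hσ1 : σ 1 = 1 := sR.map_one
            rw [map_sub, hw]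
            simp [Ψ, delta, sR, hσ1, ← Algebra.TensorProduct.one_def]
          show Ψ (delta R S' q) ∈ _
          rw [this]
          refine Ideal.mem_map_of_mem _ ?_
          show mult R S S' (w - q ⊗ₜ[R] (1 : S)) = 0
          rw [map_sub, hσ q w hw]
          simp [mult]
        have := Ideal.pow_right_mono hle (k + 1) (by rw [← Ideal.map_pow]; exact Ideal.mem_map_of_mem _ hx)
        rwa [← Ideal.map_pow, show RingHom.ker (mult R S S').toRingHom ^ (k + 1) = cutIdeal R S S' k from rfl,
          Ideal.map_quotient_self, Ideal.mem_bot] at this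
      rw [h2, zero_mul, map_zero, LinearMap.zero_apply]
    | add a b ha hb =>
      rw [map_add]
      have hlin : ∀ (y : S' ⊗[R] S') u v, phi D' (u + v) y = phi D' u y + phi D' v y := by
        intro y u v
        induction y with
        | zero => simp
        | tmul p q => simp [smul_add]
        | add y z hy hz => rw [map_add, map_add, map_add, hy, hz]; abel
      rw [hlin, ha, hb, add_zero]
  refine ⟨D', ⟨hop, hext⟩, ?_⟩
  rintro D'' ⟨hop', hext'⟩
  refine sub_eq_zero.1 (ext_zero j hj (D'' - D') (diffOp_sub hop' hop) fun m => ?_)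
  have := (LinearMap.congr_fun hext' m).trans (LinearMap.congr_fun hext m).symm
  simpa [sub_eq_zero] using this

omit [Algebra.FormallyEtale S S'] in
/-- Principal parts exist. -/
theorem exists_principalParts (R S : Type u) [CommRing R] [CommRing S] [Algebra R S] (M : Type u)
    [AddCommGroup M] [Module S M] [Module R M] [IsScalarTower R S M] (k : ℕ) :
    ∃ (P : Type u) (_ : AddCommGroup P) (_ : Module S P) (_ : Module R P) (_ : IsScalarTower R S P)
      (D : M →ₗ[R] P), IsDiffOpLE R S M P k D ∧
        ∀ (N : Type u) [AddCommGroup N] [Module S N] [Module R N] [IsScalarTower R S N] (D' : M →ₗ[R] N),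
          IsDiffOpLE R S M N k D' → ∃! α : P →ₗ[S] N, α.restrictScalars R ∘ₗ D = D' := by
  let D₀ : M →ₗ[R] S ⊗[R] M := TensorProduct.mk R S M 1
  let W : Submodule S (S ⊗[R] M) :=
    Submodule.span S {y | ∃ x ∈ KaehlerDifferential.ideal R S ^ (k + 1), ∃ t, phi D₀ t x = y}
  let D : M →ₗ[R] (S ⊗[R] M) ⧸ W := W.mkQ.restrictScalars R ∘ₗ D₀
  have hphi : ∀ {N : Type u} [AddCommGroup N] [Module S N] [Module R N] [IsScalarTower R S N]
      (α : S ⊗[R] M →ₗ[S] N) (t : M) (x : S ⊗[R] S),
      phi (α.restrictScalars R ∘ₗ D₀) t x = α (phi D₀ t x) := by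
    intro N _ _ _ _ α t x
    induction x with
    | zero => simp
    | tmul a b =>
      rw [phi_tmul, phi_tmul, LinearMap.map_smul]
      rfl
    | add x y hx hy => rw [map_add, map_add, map_add, hx, hy]
  refine ⟨(S ⊗[R] M) ⧸ W, inferInstance, inferInstance, inferInstance, inferInstance, D, ?_, ?_⟩
  · refine (le_iff_pow D).2 fun x hx t => ?_
    rw [hphi W.mkQ]
    exact (Submodule.Quotient.mk_eq_zero W).2 (Submodule.subset_span ⟨x, hx, t, rfl⟩)
  · intro N _ _ _ _ D' hD'
    let α₀ : S ⊗[R] M →ₗ[S] N := LinearMap.liftBaseChange S D'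
    have hα₀ : α₀.restrictScalars R ∘ₗ D₀ = D' := LinearMap.ext fun m => by simp [α₀, D₀]
    have hW : W ≤ LinearMap.ker α₀ := by
      rw [Submodule.span_le]
      rintro _ ⟨x, hx, t, rfl⟩
      show α₀ (phi D₀ t x) = 0
      rw [← hphi α₀, hα₀]
      exact (le_iff_pow D').1 hD' hx t
    refine ⟨W.liftQ α₀ hW, LinearMap.ext fun m => by simp [D, D₀, α₀], fun α hα => ?_⟩
    refine Submodule.linearMap_qext _ (TensorProduct.AlgebraTensorModule.ext fun a m => ?_)
    rw [show a ⊗ₜ[R] m = a • ((1 : S) ⊗ₜ[R] m) by rw [TensorProduct.smul_tmul', smul_eq_mul, mul_one],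
      LinearMap.map_smul, LinearMap.map_smul]
    congr 1
    have := LinearMap.congr_fun hα m
    simp [D, D₀] at this
    simpa [α₀] using this

end Groth.Agent.UnivFlat23
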