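import Groth.Agent.GenFree.Reduced

/-! Generic freeness for a finite module over a finite type algebra over a reduced ring. -/

universe u

open TensorProduct

namespace Groth.Agent.UnivFlat23

open Groth.GenFree

theorem exists_reduced_module {R : Type u} [CommRing R] [IsReduced R] (S : Type u) [CommRing S] [Algebra R S]
    [Algebra.FiniteType R S] (M : Type u) [AddCommGroup M] [Module S M] [Module R M] [IsScalarTower R S M]
    [Module.Finite S M] {a : R} (ha : a ≠ 0) :
    ∃ a' : R, a ∣ a' ∧ a' ≠ 0 ∧ ∀ b : R, a' ∣ b →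
      Module.Free (Localization.Away b) (LocalizedModule (Submonoid.powers b) M) ∧
      Module.FinitePresentation (Localization.Away (algebraMap R S b))
        (LocalizedModule (Submonoid.powers (algebraMap R S b)) M) := by
  classical
  obtain ⟨σn, g, hg⟩ := Algebra.FiniteType.iff_quotient_mvPolynomial''.mp ‹Algebra.FiniteType R S›
  obtain ⟨k, π, hπ⟩ := Module.Finite.exists_fin' S M
  let P := MvPolynomial (Fin σn) R
  letI : Algebra P S := g.toRingHom.toAlgebra
  haveI : IsScalarTower R P S := IsScalarTower.of_algebraMap_eq fun r => (g.commutes r).symm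
  let q : (Fin k → P) →ₗ[P] (Fin k → S) := (Algebra.linearMap P S).compLeft (Fin k)
  have hq : Function.Surjective q := fun v => by
    choose w hw using fun i => hg (v i)
    exact ⟨w, funext hw⟩
  letI : Module P M := Module.compHom M g.toRingHom
  haveI : IsScalarTower P S M := IsScalarTower.of_algebraMap_smul fun _ _ => rfl
  haveI : IsScalarTower R P M := IsScalarTower.of_algebraMap_smul fun r m => by
    show g (algebraMap R P r) • m = r • m
    rw [g.commutes, algebraMap_smul]
  let f : (Fin k → P) →ₗ[P] M := (π.restrictScalars P).comp q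
  obtain ⟨a', hdvd, ha', N₀, hN₀, hle, hfree, htor⟩ := exists_reduced_quotient (LinearMap.ker f) ha
  obtain ⟨T, hT⟩ := hN₀
  refine ⟨a', hdvd, ha', fun b hb => ⟨?_, ?_⟩⟩
  · let Rb := Localization.Away b
    letI : Algebra (Localization.Away a') Rb := (IsLocalization.Away.lift (g := algebraMap R Rb) a'
      (isUnit_of_dvd_unit ((algebraMap R Rb).map_dvd hb) (IsLocalization.Away.algebraMap_isUnit b))).toAlgebra
    haveI : IsScalarTower R (Localization.Away a') Rb :=
      IsScalarTower.of_algebraMap_eq fun d => (IsLocalization.Away.lift_eq a' _ d).symm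
    haveI := hfree
    haveI hQfree : Module.Free Rb (Rb ⊗[R] ((Fin k → P) ⧸ N₀)) := Module.Free.of_equiv
      (AlgebraTensorModule.cancelBaseChange R (Localization.Away a') Rb Rb ((Fin k → P) ⧸ N₀))
    let f₁ : ((Fin k → P) ⧸ N₀) →ₗ[R] M := (N₀.liftQ f hle).restrictScalars R
    have hf₁ : Function.Surjective f₁ := fun m => by
      obtain ⟨x, rfl⟩ := (hπ.comp hq) m
      exact ⟨Submodule.Quotient.mk x, rfl⟩
    have hker : ∀ x, f₁ x = 0 → ∃ s : Submonoid.powers b, s • x = 0 := by
      intro x hx
      obtain ⟨x, rfl⟩ := Submodule.Quotient.mk_surjective _ x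
      obtain ⟨n, hn⟩ := htor x hx
      obtain ⟨c, rfl⟩ := hb
      refine ⟨⟨(a' * c) ^ n, n, rfl⟩, ?_⟩
      show (a' * c) ^ n • (Submodule.Quotient.mk x : (Fin k → P) ⧸ N₀) = 0
      rw [mul_pow, mul_comm, mul_smul, ← Submodule.Quotient.mk_smul,
        (Submodule.Quotient.mk_eq_zero N₀).2 hn, smul_zero]
    haveI := isLocalizedModule_comp_of_surjective (Submonoid.powers b) f₁ hf₁ hker
      (LocalizedModule.mkLinearMap (Submonoid.powers b) M)
    exact Module.Free.of_equiv (IsLocalizedModule.isBaseChange (Submonoid.powers b) Rb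
      ((LocalizedModule.mkLinearMap (Submonoid.powers b) M).comp f₁)).equiv
  · let N₁ : Submodule S (Fin k → S) := Submodule.span S (q '' (T : Set (Fin k → P)))
    have hle₁ : N₁ ≤ LinearMap.ker π := Submodule.span_le.mpr (by
      rintro _ ⟨t, ht, rfl⟩
      exact hle (hT ▸ Submodule.subset_span ht : t ∈ N₀))
    haveI : Module.FinitePresentation S ((Fin k → S) ⧸ N₁) :=
      Module.finitePresentation_of_surjective N₁.mkQ N₁.mkQ_surjective
        (by rw [Submodule.ker_mkQ]; exact Submodule.fg_span (T.finite_toSet.image _))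
    have hker : ∀ x, N₁.liftQ π hle₁ x = 0 →
        ∃ s : Submonoid.powers (algebraMap R S b), s • x = 0 := by
      intro x hx
      obtain ⟨x, rfl⟩ := Submodule.Quotient.mk_surjective _ x
      obtain ⟨y, rfl⟩ := hq x
      obtain ⟨n, hn⟩ := htor y hx
      obtain ⟨c, rfl⟩ := hb
      have h := Submodule.mem_map_of_mem (f := q) hn
      rw [← hT, Submodule.map_span, LinearMap.map_smul_of_tower] at h
      have h' : a' ^ n • q y ∈ N₁ := Submodule.span_le_restrictScalars P S _ h
      refine ⟨⟨algebraMap R S (a' * c) ^ n, n, rfl⟩, ?_⟩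
      show algebraMap R S (a' * c) ^ n • (Submodule.Quotient.mk (q y) : (Fin k → S) ⧸ N₁) = 0
      rw [← Submodule.Quotient.mk_smul, Submodule.Quotient.mk_eq_zero, ← map_pow, algebraMap_smul, mul_pow,
        mul_comm, mul_smul]
      exact N₁.smul_of_tower_mem _ h'
    have hπ₁ : Function.Surjective (N₁.liftQ π hle₁) := fun m => by
      obtain ⟨x, rfl⟩ := hπ m
      exact ⟨Submodule.Quotient.mk x, rfl⟩
    let g' := LocalizedModule.mkLinearMap (Submonoid.powers (algebraMap R S b)) M
    haveI := isLocalizedModule_comp_of_surjective (Submonoid.powers (algebraMap R S b))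
      (N₁.liftQ π hle₁) hπ₁ hker g'
    exact FinitePresentation.of_isBaseChange (g'.comp (N₁.liftQ π hle₁))
      (IsLocalizedModule.isBaseChange (Submonoid.powers (algebraMap R S b))
        (Localization.Away (algebraMap R S b)) _)

theorem awayMap_fp {R S : Type u} [CommRing R] [CommRing S] [Algebra R S] (b : R)
    (h : Algebra.FinitePresentation (Localization.Away b) (Localization.Away b ⊗[R] S)) :
    (Localization.awayMap (algebraMap R S) b).FinitePresentation := by
  let Rb := Localization.Away b
  let L := Localization.Away (algebraMap R S b)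
  letI : Algebra Rb L := (Localization.awayMap (algebraMap R S) b).toAlgebra
  haveI : IsScalarTower R Rb L := IsScalarTower.of_algebraMap_eq fun r => by
    rw [RingHom.algebraMap_toAlgebra]
    exact ((IsLocalization.map_eq _ r).trans (IsScalarTower.algebraMap_apply R S L r).symm).symm
  let j : S →ₐ[R] L := IsScalarTower.toAlgHom R S L
  let ψ : Rb ⊗[R] S →ₐ[Rb] L := Algebra.TensorProduct.lift (Algebra.ofId Rb L) j fun _ _ => Commute.all _ _
  haveI : IsLocalization (Algebra.algebraMapSubmonoid S (Submonoid.powers b)) L := by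
    rw [Algebra.algebraMapSubmonoid, Submonoid.map_powers]
    exact inferInstanceAs (IsLocalization.Away (algebraMap R S b) L)
  haveI hj : IsLocalizedModule (Submonoid.powers b) j.toLinearMap := inferInstance
  let e := (IsLocalizedModule.isBaseChange (Submonoid.powers b) Rb j.toLinearMap).equiv
  have hψ : ψ.toLinearMap = e.toLinearMap := by
    refine AlgebraTensorModule.ext fun r s => ?_
    show ψ (r ⊗ₜ s) = e (r ⊗ₜ s)
    rw [IsBaseChange.equiv_tmul, Algebra.TensorProduct.lift_tmul, Algebra.smul_def]
    rfl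
  have hbij : Function.Bijective ψ := by
    have h2 : ⇑ψ = ⇑e := funext fun x => LinearMap.congr_fun hψ x
    rw [h2]; exact e.bijective
  exact h.equiv (AlgEquiv.ofBijective ψ hbij)

theorem generic_free_reduced (R S : Type u) [CommRing R] [IsReduced R] [CommRing S]
    [Algebra R S] [Algebra.FiniteType R S] (M : Type u) [AddCommGroup M] [Module S M] [Module R M]
    [IsScalarTower R S M] [Module.Finite S M] :
    ∃ U : Set (PrimeSpectrum R), IsOpen U ∧ Dense U ∧ ∀ u ∈ U, ∃ f : R, f ∉ u.asIdeal ∧
      (PrimeSpectrum.basicOpen f : Set (PrimeSpectrum R)) ⊆ U ∧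
      Module.Free (Localization.Away f) (LocalizedModule (Submonoid.powers f) M) ∧
      Module.Free (Localization.Away f) (LocalizedModule (Submonoid.powers f) S) ∧
      (Localization.awayMap (algebraMap R S) f).FinitePresentation ∧
      Module.FinitePresentation (Localization.Away (algebraMap R S f))
        (LocalizedModule (Submonoid.powers (algebraMap R S f)) M) := by
  let G : Set R := {f | Module.Free (Localization.Away f) (LocalizedModule (Submonoid.powers f) M) ∧
      Module.Free (Localization.Away f) (LocalizedModule (Submonoid.powers f) S) ∧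
      (Localization.awayMap (algebraMap R S) f).FinitePresentation ∧
      Module.FinitePresentation (Localization.Away (algebraMap R S f))
        (LocalizedModule (Submonoid.powers (algebraMap R S f)) M)}
  refine ⟨⋃ f ∈ G, (PrimeSpectrum.basicOpen f : Set (PrimeSpectrum R)),
    isOpen_biUnion fun f _ => (PrimeSpectrum.basicOpen f).isOpen, ?_, ?_⟩
  · rw [dense_iff_inter_open]
    intro W hW hne
    obtain ⟨w, hw⟩ := hne
    obtain ⟨_, ⟨a, rfl⟩, haw, haW⟩ :=
      PrimeSpectrum.isTopologicalBasis_basic_opens.exists_subset_of_mem_open hw hW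
    have ha : a ≠ 0 := by
      rintro rfl
      exact haw (w.asIdeal.zero_mem)
    obtain ⟨a₁, h₁, ha₁, halg⟩ := Groth.GenFree.exists_reduced_algebra R S ha
    obtain ⟨a₂, h₂, ha₂, hmod⟩ := exists_reduced_module (R := R) S M ha₁
    obtain ⟨v, hv⟩ : ∃ v : PrimeSpectrum R, a₂ ∉ v.asIdeal := by
      by_contra hcon
      simp only [not_exists, not_not] at hcon
      refine ha₂ (IsReduced.eq_zero _ (nilpotent_iff_mem_prime.2 fun J hJ => hcon ⟨J, hJ⟩))
    refine ⟨v, haW ?_, Set.mem_biUnion (x := a₂) ⟨(hmod a₂ dvd_rfl).1, ?_,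
      awayMap_fp a₂ (halg a₂ h₂).1, (hmod a₂ dvd_rfl).2⟩ hv⟩
    · intro hmem
      exact hv (v.asIdeal.mem_of_dvd (h₁.trans h₂) hmem)
    · haveI := (halg a₂ h₂).2
      exact Module.Free.of_equiv (IsLocalizedModule.isBaseChange (Submonoid.powers a₂) (Localization.Away a₂)
        (LocalizedModule.mkLinearMap (Submonoid.powers a₂) S)).equiv
  · intro u hu
    obtain ⟨f, hf, hfu⟩ := Set.mem_iUnion₂.1 hu
    exact ⟨f, hfu, Set.subset_biUnion_of_mem (u := fun f => (PrimeSpectrum.basicOpen f : Set (PrimeSpectrum R))) hf,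
      hf.1, hf.2.1, hf.2.2.1, hf.2.2.2⟩

end Groth.Agent.UnivFlat23
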